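import Cfsg.Agent.Lib.Small.SUPres.U4.Pres
import Cfsg.Agent.Lib.Small.SUPres.SmallSL
import Cfsg.Agent.Lib.Small.SL3Pres.Main
import Cfsg.Agent.Lib.Small.BoundedPres.SLnShortAll

/-!
The presentation of `SU_4(q)` of the standard form on four generators.
-/

set_option autoImplicit false
set_option linter.unusedSectionVars false
set_option linter.style.haveILetI false

namespace Cfsg.Agent.Small.SUPres.U4

open Matrix Subgroup Cfsg.Agent.Lead.SL2Pres Cfsg.Agent.Small.BoundedPres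
open scoped MatrixGroups

universe u

variable {F : Type u} [Field F] [StarRing F] [Fintype F] {q : ℕ}

/-! ### Field facts -/

section

variable (hstar : ∀ x : F, star x = x ^ q) (hF : Fintype.card F = q ^ 2) {t₀ : Fˣ}
  (hgen : ∀ t : Fˣ, t ∈ Subgroup.zpowers t₀)

include hstar hF

theorem nrmU_surjective : Function.Surjective (nrmU : Fˣ →* (Fx F)ˣ) := fun c => by
  obtain ⟨s, hs0, hs⟩ := Hermitian.exists_norm hstar hF
    (a := ((c : Fx F) : F)) (fun h => c.ne_zero (Subtype.ext h)) (star_fx _)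
  refine ⟨Units.mk0 s hs0, Units.ext (Subtype.ext ?_)⟩
  rw [nrmU_val, Units.val_mk0, mul_comm, hs]

include hgen

theorem orderOf_gen : orderOf t₀ = q ^ 2 - 1 := by
  rw [orderOf_eq_card_of_forall_mem_zpowers hgen, Nat.card_units, Nat.card_eq_fintype_card, hF]

theorem ω_eq : star (t₀ : F) / (t₀ : F) = ((t₀ ^ (q - 1) : Fˣ) : F) := by
  have hq := Hermitian.q_two_le hF
  rw [hstar, Units.val_pow_eq_pow_val, div_eq_iff t₀.ne_zero, ← pow_succ, Nat.sub_add_cancel (by omega)]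

theorem ω_pow_ne {m : ℕ} (hm : 0 < m) (h : m < q + 1) : (star (t₀ : F) / (t₀ : F)) ^ m ≠ 1 := by
  intro e
  rw [ω_eq hstar hF hgen, ← Units.val_pow_eq_pow_val, Units.val_eq_one, ← pow_mul] at e
  have hd := orderOf_dvd_of_pow_eq_one e
  rw [orderOf_gen hstar hF hgen, Hermitian.sq_sub_one, mul_comm (q + 1)] at hd
  have hq := Hermitian.q_two_le hF
  have hd' := Nat.le_of_dvd hm (Nat.dvd_of_mul_dvd_mul_left (by omega : 0 < q - 1) hd)
  omega

theorem star_ω_mul : star (star (t₀ : F) / (t₀ : F)) * (star (t₀ : F) / (t₀ : F)) = 1 := by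
  have := t₀.ne_zero
  have h' : star (t₀ : F) ≠ 0 := star_ne_zero.2 t₀.ne_zero
  rw [star_div₀, star_star]
  field_simp

theorem ω_nonfix : star (star (t₀ : F) / (t₀ : F)) ≠ star (t₀ : F) / (t₀ : F) := by
  intro e
  have h := star_ω_mul hstar hF hgen
  rw [e, ← sq] at h
  exact ω_pow_ne hstar hF hgen (by norm_num) (by have := Hermitian.q_two_le hF; omega) h

theorem ω_sq_nonfix (hq : q ≠ 3) :
    star ((star (t₀ : F) / (t₀ : F)) ^ 2) ≠ (star (t₀ : F) / (t₀ : F)) ^ 2 := by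
  intro e
  have h := congrArg (· ^ 2) (star_ω_mul hstar hF hgen)
  simp only [one_pow, mul_pow] at h
  rw [← star_pow, e, ← pow_add] at h
  rcases (show q = 2 ∨ 4 ≤ q by have := Hermitian.q_two_le hF; omega) with h2 | h4
  · subst h2
    have h3 : (star (t₀ : F) / (t₀ : F)) ^ 3 = 1 := by
      rw [ω_eq hstar hF hgen, ← Units.val_pow_eq_pow_val, Units.val_eq_one, ← pow_mul]
      have := pow_orderOf_eq_one t₀
      rwa [orderOf_gen hstar hF hgen] at this
    rw [show (2 + 2 : ℕ) = 3 + 1 from rfl, pow_succ, h3, one_mul] at h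
    exact ω_pow_ne hstar hF hgen one_pos (by norm_num) (by rw [pow_one]; exact h)
  · exact ω_pow_ne hstar hF hgen (by norm_num) (by omega) h

theorem card_Fx : Nat.card (Fx F) = q := by
  have hq := Hermitian.q_two_le hF
  have h1 : Nat.card (Fx F)ˣ * Nat.card (nrmU : Fˣ →* (Fx F)ˣ).ker = q ^ 2 - 1 := by
    have := Subgroup.card_eq_card_quotient_mul_card_subgroup (nrmU : Fˣ →* (Fx F)ˣ).ker
    rw [Nat.card_congr (QuotientGroup.quotientKerEquivOfSurjective _ (nrmU_surjective hstar hF)).toEquiv,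
      Nat.card_units, Nat.card_eq_fintype_card, hF] at this
    exact this.symm
  have h2 : (nrmU : Fˣ →* (Fx F)ˣ).ker = Subgroup.zpowers (t₀ ^ (q - 1)) := by
    ext x
    obtain ⟨k, rfl⟩ := zpow_surjective hgen x
    have hk : t₀ ^ k ∈ (nrmU : Fˣ →* (Fx F)ˣ).ker ↔ (q ^ 2 - 1) ∣ k * (q + 1) := by
      rw [MonoidHom.mem_ker, ← orderOf_gen hstar hF hgen, orderOf_dvd_iff_pow_eq_one, pow_mul, Units.ext_iff,
        Units.ext_iff, Subtype.ext_iff, nrmU_val, hstar, ← pow_succ', Units.val_pow_eq_pow_val]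
      simp
    rw [hk]
    constructor
    · intro hd
      rw [Hermitian.sq_sub_one, mul_comm k] at hd
      obtain ⟨j, rfl⟩ := Nat.dvd_of_mul_dvd_mul_left (by omega : 0 < q + 1) hd
      exact ⟨(j : ℤ), show (t₀ ^ (q - 1)) ^ (j : ℤ) = _ by rw [zpow_natCast, ← pow_mul]⟩
    · intro hx
      obtain ⟨j, hj⟩ := mem_powers_iff_mem_zpowers.2 hx
      have hj' : (t₀ ^ (q - 1)) ^ j = t₀ ^ k := hj
      rw [← orderOf_gen hstar hF hgen, orderOf_dvd_iff_pow_eq_one, pow_mul, ← hj', ← pow_mul, ← pow_mul,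
        ← orderOf_dvd_iff_pow_eq_one, orderOf_gen hstar hF hgen, Hermitian.sq_sub_one]
      exact ⟨j, by ring⟩
  rw [h2, Nat.card_zpowers, orderOf_pow' _ (by omega : q - 1 ≠ 0), orderOf_gen hstar hF hgen,
    Hermitian.sq_sub_one, Nat.gcd_eq_right (dvd_mul_left _ _), Nat.mul_div_cancel _ (by omega : 0 < q - 1),
    mul_comm] at h1
  have h4 := Nat.eq_of_mul_eq_mul_left (by omega : 0 < q + 1) h1
  rw [Nat.card_units] at h4
  have : 0 < Nat.card (Fx F) := Nat.card_pos
  omega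

end

/-! ### Generators of rank one groups -/

/-- The torus and one element generate when the torus is not of exponent two. -/
theorem gen_dg {K : Type*} [Field K] [Finite K] (ζ : Kˣ) (h : ((ζ⁻¹ : Kˣ) : K) ^ 2 ≠ 1) :
    closure (Set.range (![un 1 * tw] : Fin 1 → SL(2, K)) ∪ Set.range dg) = ⊤ := by
  set M := closure (Set.range (![un 1 * tw] : Fin 1 → SL(2, K)) ∪ Set.range dg) with hM
  have hg : un 1 * tw ∈ M := subset_closure (Or.inl ⟨0, rfl⟩)
  have hd : ∀ l, dg l ∈ M := fun l => subset_closure (Or.inr ⟨l, rfl⟩)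
  set c₀ := (1 : K) - ((ζ⁻¹ : Kˣ) : K) ^ 2 with hc₀
  have hc0 : c₀ ≠ 0 := sub_ne_zero.2 (Ne.symm h)
  have hdi : (dg ζ : SL(2, K))⁻¹ = dg ζ⁻¹ :=
    inv_eq_of_mul_eq_one_right (by rw [← dg_mul, mul_inv_cancel, dg_one])
  have un0 : un (0 : K) = 1 := Matrix.SpecialLinearGroup.ext _ _ fun i j => by
    fin_cases i <;> fin_cases j <;> simp [un]
  have hc : un c₀ ∈ M := by
    have e : (un 1 * tw) * dg ζ * (un 1 * tw)⁻¹ * dg ζ = un c₀ := by
      have e1 : (un 1 * tw) * dg ζ * (un 1 * tw)⁻¹ = un 1 * dg ζ⁻¹ * (un 1)⁻¹ := by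
        rw [mul_assoc (un 1) tw, tw_dg]; group
      have e2 : dg ζ⁻¹ * (un (1 : K))⁻¹ * dg ζ = un (-((ζ⁻¹ : Kˣ) : K) ^ 2) := by
        rw [show (un (1 : K))⁻¹ = un (-1) by rw [inv_eq_iff_mul_eq_one, ← un_add, add_neg_cancel, un0], dg_un,
          ← hdi, inv_mul_cancel_right]
        simp
      calc (un 1 * tw) * dg ζ * (un 1 * tw)⁻¹ * dg ζ
          = un 1 * (dg ζ⁻¹ * (un 1)⁻¹ * dg ζ) := by rw [e1]; group
        _ = un c₀ := by rw [e2, ← un_add, hc₀, sub_eq_add_neg]
    rw [← e]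
    exact mul_mem (mul_mem (mul_mem hg (hd _)) (inv_mem hg)) (hd _)
  have hun : ∀ c, un c ∈ M := by
    intro c
    have := sq_induction (fun x : K => un (x * c₀) ∈ M) (by rw [zero_mul, un0]; exact one_mem M)
      (fun x y hx hy => by rw [add_mul, un_add]; exact mul_mem hx hy)
      (fun l => by
        rw [show un ((l : K) ^ 2 * c₀) = dg l * un c₀ * (dg l)⁻¹ by rw [dg_un, mul_inv_cancel_right]]
        exact mul_mem (mul_mem (hd l) hc) (inv_mem (hd l))) (c / c₀)
    rwa [div_mul_cancel₀ _ hc0] at this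
  have ht : tw ∈ M := by
    have := mul_mem (inv_mem (hun 1)) hg
    rwa [inv_mul_cancel_left] at this
  rw [eq_top_iff]
  intro g _
  rcases exists_bruhat g with ⟨x, l, rfl⟩ | ⟨x, l, y, rfl⟩
  · exact mul_mem (hun x) (hd l)
  · exact mul_mem (mul_mem (mul_mem (hun x) (hd l)) ht) (hun y)

theorem gen_two {K : Type*} [Field K] [Fintype K] : ∃ g : Fin 2 → SL(2, K), closure (Set.range g) = ⊤ := by
  obtain ⟨a, b, h⟩ := SL3Pres.two_generators (F := K)
  refine ⟨![a, b], ?_⟩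
  rw [← h]
  congr 1
  simp [Matrix.range_cons, Matrix.range_empty, Set.pair_comm]

/-! ### The generators of the form group -/

variable {δ : F} (hδ : δ ≠ 0) (hδ' : star δ = -δ)

theorem gen_four {ω : F} (hω : star ω ≠ ω) :
    closure (Set.range (lev : SL(2, F) → G4 F) ∪ {psi hδ hδ' tw}) ⊔ (psi hδ hδ').range =
      closure (Set.range (lev : SL(2, F) → G4 F) ∪ {psi hδ hδ' tw}) := by
  set M := closure (Set.range (lev : SL(2, F) → G4 F) ∪ {psi hδ hδ' tw}) with hM
  have hl : ∀ g, lev g ∈ M := fun g => subset_closure (Or.inl ⟨g, rfl⟩)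
  have ht : psi hδ hδ' tw ∈ M := subset_closure (Or.inr rfl)
  have hY : ∀ u, rY lev u ∈ M := fun u => hl _
  have hX : ∀ u, rX lev (psi hδ hδ') u ∈ M := fun u => by
    rw [rX, MulAut.conj_apply]; exact mul_mem (mul_mem ht (hY u)) (inv_mem ht)
  have hZ : ∀ r s : F, rZ lev (psi hδ hδ') (tr2 r s) ∈ M := fun r s => by
    have h := model_yx hδ hδ' r s
    rw [mul_assoc, ← mul_inv_eq_iff_eq_mul] at h
    rw [← h]
    exact mul_mem (mul_mem (hY r) (hX s)) (inv_mem (mul_mem (hX s) (hY r)))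
  have hun : ∀ c, psi hδ hδ' (un c) ∈ M := fun c => by
    obtain ⟨s₀, hs₀⟩ : ∃ s₀ : F, s₀ + star s₀ ≠ 0 := by
      by_cases h2 : (2 : F) = 0
      · refine ⟨ω, fun e => hω ?_⟩
        linear_combination e - ω * h2
      · exact ⟨1, by rwa [star_one, one_add_one_eq_two]⟩
    have hc : tr2 1 (-((c : F) / (s₀ + star s₀)) * s₀) = c := by
      apply Subtype.ext
      have hd : star ((c : F) / (s₀ + star s₀)) = (c : F) / (s₀ + star s₀) := by
        rw [star_div₀, star_fx, star_add, star_star, add_comm]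
      simp [star_neg, star_mul', hd]
      field_simp
    have h := mul_mem (mul_mem (inv_mem (hl tw)) (hZ 1 (-((c : F) / (s₀ + star s₀)) * s₀))) (hl tw)
    rw [hc] at h
    rwa [rZ, MulAut.conj_apply, ← mul_assoc, ← mul_assoc, inv_mul_cancel, one_mul, inv_mul_cancel_right] at h
  refine sup_eq_left.2 ?_
  rintro _ ⟨s, rfl⟩
  have hdg : ∀ l, psi hδ hδ' (dg l) ∈ M := fun l => by
    have e : dg l = un (l : Fx F) * tw * un ((l⁻¹ : (Fx F)ˣ) : Fx F) * tw * un (l : Fx F) * tw := by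
      apply Matrix.SpecialLinearGroup.ext
      intro i j
      simp only [Matrix.SpecialLinearGroup.coe_mul]
      have := l.ne_zero
      fin_cases i <;> fin_cases j <;>
        simp [dg, un, tw, Matrix.mul_apply, Fin.sum_univ_two, Units.val_inv_eq_inv_val] <;> field_simp <;> ring
    rw [e]
    simp only [map_mul]
    exact mul_mem (mul_mem (mul_mem (mul_mem (mul_mem (hun _) ht) (hun _)) ht) (hun _)) ht
  rcases exists_bruhat s with ⟨x, l, rfl⟩ | ⟨x, l, y, rfl⟩
  · rw [map_mul]; exact mul_mem (hun x) (hdg l)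
  · rw [map_mul, map_mul, map_mul]; exact mul_mem (mul_mem (mul_mem (hun x) (hdg l)) ht) (hun y)

/-! ### The standard form -/

set_option maxHeartbeats 1000000 in
theorem exists_frame (hstar : ∀ x : F, star x = x ^ q) (hF : Fintype.card F = q ^ 2) :
    ∃ U : Matrix (Fin 4) (Fin 4) F, Uᴴ * U = J4 F := by
  obtain ⟨a, ha0, ha⟩ := Hermitian.exists_norm hstar hF (a := (-1 : F)) (by simp) (by rw [star_neg, star_one])
  obtain ⟨t₀, hgen⟩ := IsCyclic.exists_generator (α := Fˣ)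
  set ω := star (t₀ : F) / (t₀ : F) with hω
  have hω1 : star ω * ω = 1 := star_ω_mul hstar hF hgen
  have hne : ω ≠ 1 := fun e => ω_nonfix hstar hF hgen (by rw [← hω, e, star_one])
  have hd : (1 : F) + star a * (a * ω) ≠ 0 := fun e => hne (by linear_combination (-1 : F) * e + ω * ha)
  set l := ((1 : F) + star a * (a * ω))⁻¹ with hl
  have hl1 : l * (1 + star a * (a * ω)) = 1 := inv_mul_cancel₀ hd
  have hl2 : star l * (1 + a * (star a * star ω)) = 1 := by
    have := congrArg star hl1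
    simpa [star_mul', star_add, star_star] using this
  refine ⟨!![1, 0, l, 0; a, 0, l * (a * ω), 0; 0, 1, 0, l; 0, a, 0, l * (a * ω)], ?_⟩
  ext i j
  fin_cases i <;> fin_cases j <;>
    simp [J4, Matrix.mul_apply, Fin.sum_univ_four, Matrix.conjTranspose_apply, star_mul'] <;>
    first
      | linear_combination ha
      | linear_combination hl1
      | linear_combination hl2
      | linear_combination (star l * l) * (star a * a) * hω1 + (star l * l) * ha
      | ring

/-- Four generators and twenty-six relations; twenty when `q = 2`. -/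
theorem presOn_SU4 (hstar : ∀ x : F, star x = x ^ q) (hF : Fintype.card F = q ^ 2) :
    ∃ f : Fin 4 → Cfsg.SU 4 F q, PresOn f (if q = 2 then 20 else 26) := by
  classical
  obtain ⟨t₀, hgen⟩ := IsCyclic.exists_generator (α := Fˣ)
  have hω := ω_nonfix hstar hF hgen
  have hnorm := nrmU_surjective hstar hF
  haveI : Fintype (Fx F) := Fintype.ofFinite _
  have hK : Fintype.card (Fx F) = q := by rw [← Nat.card_eq_fintype_card]; exact card_Fx hstar hF hgen
  have hq := Hermitian.q_two_le hF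
  set δ : F := (t₀ : F) - star (t₀ : F) with hδdef
  have hδ : δ ≠ 0 := fun e => hω (by
    have e' : star (t₀ : F) = (t₀ : F) := (sub_eq_zero.1 e).symm
    rw [e', div_self t₀.ne_zero, star_one])
  have hδ' : star δ = -δ := by rw [hδdef, star_sub, star_star, neg_sub]
  have hT : closure (Set.range (![un 1 * tw] : Fin 1 → SL(2, F)) ∪ Set.range dg) = ⊤ := gen_dg t₀ fun e => by
    rw [← Units.val_pow_eq_pow_val, Units.val_eq_one, inv_pow, inv_eq_one] at e
    have := Nat.le_of_dvd (by norm_num) (orderOf_dvd_of_pow_eq_one e)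
    rw [orderOf_gen hstar hF hgen] at this
    have : 4 ≤ q ^ 2 := by nlinarith
    omega
  obtain ⟨gA, hA⟩ := gen_two (K := Fx F)
  have key : ∀ {κ : Type} {e : ℕ} (f₁ : Fin 3 → SL(2, F)) (f₂ : κ → SL(2, Fx F)) (j : κ) (r₁ r₂ k : ℕ)
      (gP : Fin e → SL(2, Fx F)), PresOn f₁ r₁ → PresOn f₂ r₂ → f₂ j = tw →
      closure (Set.range gP ∪ Set.range dg) = ⊤ →
      1 + 2 + Nat.card {p : Fin e × Fin e // p.1 ≤ p.2} + 3 +
        (if star ((star (t₀ : F) / (t₀ : F)) ^ 2) = (star (t₀ : F) / (t₀ : F)) ^ 2 then 1 else 0) ≤ k →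
      ∃ f : Fin 4 → Cfsg.SU 4 F q, PresOn f (r₁ + r₂ + k) := by
    intro κ e f₁ f₂ j r₁ r₂ k gP h₁ h₂ hj hP hk
    have h := pres_G4 hδ hδ' t₀ hω hgen (fun c => hnorm c) h₁ h₂ ![un 1 * tw] gA gP hT hA hP hk
    let sel : Fin 4 → Fin 3 ⊕ κ := ![Sum.inl 0, Sum.inl 1, Sum.inl 2, Sum.inr j]
    have hsel : Function.Injective sel := fun x y hxy => by
      fin_cases x <;> fin_cases y <;> simp_all [sel]
    have hgen4 : closure (Set.range (Sum.elim (lev ∘ f₁) (psi hδ hδ' ∘ f₂) ∘ sel)) = ⊤ := by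
      set M := closure (Set.range (Sum.elim (lev ∘ f₁) (psi hδ hδ' ∘ f₂) ∘ sel))
      have hlev : (lev : SL(2, F) →* G4 F).range ≤ M := by
        rw [MonoidHom.range_eq_map, ← h₁.1, MonoidHom.map_closure, closure_le]
        rintro _ ⟨_, ⟨i, rfl⟩, rfl⟩
        refine subset_closure ?_
        fin_cases i
        exacts [⟨0, rfl⟩, ⟨1, rfl⟩, ⟨2, rfl⟩]
      have htw : psi hδ hδ' tw ∈ M := by
        rw [← hj]; exact subset_closure ⟨3, rfl⟩
      have hle : closure (Set.range (lev : SL(2, F) → G4 F) ∪ {psi hδ hδ' tw}) ≤ M := by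
        rw [closure_le, Set.union_subset_iff]
        exact ⟨by rintro _ ⟨g, rfl⟩; exact hlev ⟨g, rfl⟩, Set.singleton_subset_iff.2 htw⟩
      have hψ : (psi hδ hδ').range ≤ M :=
        ((le_sup_right).trans (gen_four hδ hδ' hω).le).trans hle
      rw [eq_top_iff, ← h.1, closure_le]
      rintro _ ⟨i | i, rfl⟩
      · exact hlev ⟨_, rfl⟩
      · exact hψ ⟨_, rfl⟩
    have h4 := h.restrict sel hsel hgen4
    obtain ⟨U, hU⟩ := exists_frame hstar hF
    have hfull : U * (J4 F * Uᴴ) = 1 := mul_eq_one_comm.1 (by rw [Matrix.mul_assoc, hU, J4_sq])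
    let Φ := frameHom hstar U (J4 F) J4_star J4_sq hU
    have hΦ : Function.Bijective Φ :=
      ⟨frameHom_injective hstar U (J4 F) J4_star J4_sq hU,
        fun g => mem_range_of_full hstar U (J4 F) J4_star J4_sq hU hfull g⟩
    exact ⟨_, h4.map (MulEquiv.ofBijective Φ hΦ)⟩
  have hpairs1 : Nat.card {p : Fin 1 × Fin 1 // p.1 ≤ p.2} = 1 := by
    rw [Nat.card_eq_fintype_card]; decide
  have hpairs2 : Nat.card {p : Fin 2 × Fin 2 // p.1 ≤ p.2} = 3 := by
    rw [Nat.card_eq_fintype_card]; decide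
  have h9 : ∀ (K : Type u) [Field K] [Fintype K], ∃ f : Fin 3 → SL(2, K), PresOn f 9 := fun K _ _ =>
    PresOn.exists_of_presN ((Cfsg.Agent.S2286.result (F := K)).1)
  by_cases h2 : q = 2
  · subst h2
    haveI : CharP (Fx F) 2 := charP_of_card_eq_prime (R := Fx F) hK
    haveI : CharP F 2 :=
      (RingHom.charP_iff (fixF F).subtype (fixF F).subtype.injective 2).1 inferInstance
    obtain ⟨f₁, h₁⟩ := PresOn.exists_of_presN (presN_SL2_even (F := F))
    obtain ⟨f₂, h₂⟩ := PresOn.exists_of_presN (presN_SL2_even (F := Fx F))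
    obtain ⟨f, hf⟩ := key f₁ _ none 5 (5 + 1) 9 gA h₁ (h₂.insert tw) rfl
      (eq_top_iff.2 (hA ▸ closure_mono Set.subset_union_left))
      (by rw [hpairs2, if_neg (ω_sq_nonfix hstar hF hgen (by norm_num))])
    exact ⟨f, hf.mono (by norm_num)⟩
  rw [if_neg h2]
  obtain ⟨f₁, h₁⟩ := h9 F
  by_cases h3 : q = 3
  · subst h3
    obtain ⟨f, hf⟩ := key f₁ _ (1 : Fin 2) 9 4 10 gA h₁ (presOn_SL2_three hK) rfl
      (eq_top_iff.2 (hA ▸ closure_mono Set.subset_union_left))
      (by rw [hpairs2]; split_ifs <;> norm_num)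
    exact ⟨f, hf.mono (by norm_num)⟩
  obtain ⟨f₂, h₂⟩ := h9 (Fx F)
  obtain ⟨ζ, hζ⟩ := IsCyclic.exists_generator (α := (Fx F)ˣ)
  have hP : closure (Set.range (![un 1 * tw] : Fin 1 → SL(2, Fx F)) ∪ Set.range dg) = ⊤ := gen_dg ζ fun e => by
    rw [← Units.val_pow_eq_pow_val, Units.val_eq_one, inv_pow, inv_eq_one] at e
    have := Nat.le_of_dvd (by norm_num) (orderOf_dvd_of_pow_eq_one e)
    rw [orderOf_eq_card_of_forall_mem_zpowers hζ, Nat.card_units, Nat.card_eq_fintype_card, hK] at this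
    omega
  obtain ⟨f, hf⟩ := key f₁ _ none 9 (9 + 1) 7 _ h₁ (h₂.insert tw) rfl hP
    (by rw [hpairs1, if_neg (ω_sq_nonfix hstar hF hgen h3)])
  exact ⟨f, hf.mono (by norm_num)⟩

end Cfsg.Agent.Small.SUPres.U4
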