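import Cfsg.Agent.Lib.Small.SUPres.U4.Points
import Cfsg.Agent.Lib.Small.SUPres.Cover

/-!
The relations present the four-dimensional special unitary group.
-/

set_option autoImplicit false
set_option linter.unusedSectionVars false
set_option linter.unusedSimpArgs false

namespace Cfsg.Agent.Small.SUPres.U4

open Matrix Cfsg.Agent.Lead.SL2Pres
open scoped MatrixGroups

variable {F : Type*} [Field F] [StarRing F] [Finite F] {H : Type*} [Group H] {φ : SL(2, F) →* H}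
  {ψ : SL(2, Fx F) →* H} {δ ω : F} {hδ : δ ≠ 0} {hδ' : star δ = -δ}

theorem tw_tw_inv {K : Type*} [Field K] : (tw : SL(2, K))⁻¹ = dg (-1) * tw := by
  refine inv_eq_of_mul_eq_one_right ?_
  rw [← mul_assoc, tw_dg, mul_assoc, tw_tw, ← dg_mul, inv_mul_cancel, dg_one]

theorem tw_dg_tw {K : Type*} [Field K] : (tw : SL(2, K)) * dg (-1) * tw = 1 := by
  rw [tw_dg, mul_assoc, tw_tw, ← dg_mul, inv_mul_cancel, dg_one]

theorem ln_zero' {K : Type*} [Field K] : ln (0 : K) = 1 :=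
  Matrix.SpecialLinearGroup.ext _ _ fun i j => by fin_cases i <;> fin_cases j <;> simp [ln]

theorem un_conj {K : Type*} [Field K] (c : K) : un c = tw * ln (-c) * (tw : SL(2, K))⁻¹ := by
  apply Subtype.ext
  rw [Matrix.SpecialLinearGroup.coe_mul, Matrix.SpecialLinearGroup.coe_mul, tw_inv_val]
  ext i j
  fin_cases i <;> fin_cases j <;> simp [un, ln, tw, Matrix.mul_apply, Fin.sum_univ_two]

theorem triangle_identity {K : Type*} [Field K] (r : Kˣ) : ln (r : K) * tw =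
    tw * ln (-((r⁻¹ : Kˣ) : K)) * tw * (dg (-r⁻¹) * ln (-((r⁻¹ : Kˣ) : K))) := by
  apply Matrix.SpecialLinearGroup.ext
  intro i j
  simp only [Matrix.SpecialLinearGroup.coe_mul]
  fin_cases i <;> fin_cases j <;> simp [ln, tw, dg, Matrix.mul_apply, Fin.sum_univ_two] <;> field_simp <;> ring

namespace Rels

open Base

variable (R : Rels φ ψ δ ω hδ hδ')

/-- The stabiliser in the presented group. -/
def A (_R : Rels φ ψ δ ω hδ hδ') : Subgroup H :=
  Subgroup.closure (Set.range (rY φ) ∪ Set.range (rX φ ψ) ∪ Set.range (rZ φ ψ) ∪ Set.range ψ ∪ Set.range (rD φ))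

theorem Y_mem (u : F) : rY φ u ∈ R.A :=
  Subgroup.subset_closure (Or.inl (Or.inl (Or.inl (Or.inl ⟨u, rfl⟩))))

theorem X_mem (u : F) : rX φ ψ u ∈ R.A :=
  Subgroup.subset_closure (Or.inl (Or.inl (Or.inl (Or.inr ⟨u, rfl⟩))))

theorem Z_mem (c : Fx F) : rZ φ ψ c ∈ R.A :=
  Subgroup.subset_closure (Or.inl (Or.inl (Or.inr ⟨c, rfl⟩)))

theorem ψ_mem (s : SL(2, Fx F)) : ψ s ∈ R.A := Subgroup.subset_closure (Or.inl (Or.inr ⟨s, rfl⟩))

theorem D_mem (t : Fˣ) : rD φ t ∈ R.A := Subgroup.subset_closure (Or.inr ⟨t, rfl⟩)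

/-- Unipotent normal form. -/
def IsU (_R : Rels φ ψ δ ω hδ hδ') (x : H) : Prop :=
  ∃ (u β : F) (c : Fx F), x = rY φ u * rX φ ψ β * rZ φ ψ c

theorem isU_Y (u : F) : R.IsU (rY φ u) := ⟨u, 0, 0, by rw [X_zero, Z_zero, mul_one, mul_one]⟩

theorem isU_X (u : F) : R.IsU (rX φ ψ u) := ⟨0, u, 0, by rw [Y_zero, Z_zero, one_mul, mul_one]⟩

theorem isU_Z (c : Fx F) : R.IsU (rZ φ ψ c) := ⟨0, 0, c, by rw [Y_zero, X_zero, one_mul, one_mul]⟩

include R

theorem X_Y (u β : F) : rX φ ψ β * rY φ u = rY φ u * rX φ ψ β * rZ φ ψ (-tr2 u β) := by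
  rw [R.YX_all u β, mul_assoc (rZ φ ψ _),
    ((Commute.mul_left (R.XZ_all β _) (R.YZ_all u _)).symm).eq, mul_assoc, ← Z_add, add_neg_cancel, Z_zero, mul_one]

theorem isU_mul {x y : H} (hx : R.IsU x) (hy : R.IsU y) : R.IsU (x * y) := by
  obtain ⟨u, β, c, rfl⟩ := hx
  obtain ⟨u', β', c', rfl⟩ := hy
  refine ⟨u + u', β + β', -tr2 u' β + (c + c'), ?_⟩
  have h1 : ∀ d w, rZ φ ψ d * rY φ w = rY φ w * rZ φ ψ d := fun d w => (R.YZ_all w d).eq.symm
  have h2 : ∀ d w, rZ φ ψ d * rX φ ψ w = rX φ ψ w * rZ φ ψ d := fun d w => (R.XZ_all w d).eq.symm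
  calc rY φ u * rX φ ψ β * rZ φ ψ c * (rY φ u' * rX φ ψ β' * rZ φ ψ c')
      = rY φ u * (rX φ ψ β * rY φ u') * (rZ φ ψ c * rX φ ψ β') * rZ φ ψ c' := by
        simp only [mul_assoc]; rw [← mul_assoc (rZ φ ψ c) (rY φ u'), h1, mul_assoc]
    _ = _ := by
        rw [R.X_Y, h2, Y_add, X_add, Z_add, Z_add]
        simp only [mul_assoc]
        rw [← mul_assoc (rZ φ ψ (-tr2 u' β)) (rX φ ψ β'), h2, mul_assoc]

theorem isU_conj_D (t : Fˣ) {x : H} (hx : R.IsU x) : R.IsU (MulAut.conj (rD φ t) x) := by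
  obtain ⟨u, β, c, rfl⟩ := hx
  exact ⟨_, _, _, by rw [map_mul, map_mul, D_Y, R.D_X, R.D_Z]⟩

/-- The elements of the rank one group normalising the unipotent group. -/
def Nrm (s : SL(2, Fx F)) : Prop := ∀ x, R.IsU x → R.IsU (MulAut.conj (ψ s) x)

theorem nrm_mul {s s' : SL(2, Fx F)} (h : R.Nrm s) (h' : R.Nrm s') : R.Nrm (s * s') := fun x hx => by
  rw [map_mul, ← cj_mul]; exact h _ (h' _ hx)

theorem nrm_of {s : SL(2, Fx F)} (hY : ∀ u, R.IsU (MulAut.conj (ψ s) (rY φ u)))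
    (hX : ∀ u, R.IsU (MulAut.conj (ψ s) (rX φ ψ u))) : R.Nrm s := by
  rintro x ⟨u, β, c, rfl⟩
  rw [map_mul, map_mul]
  refine R.isU_mul (R.isU_mul (hY u) (hX β)) ?_
  rw [MulAut.conj_apply, (R.zψ_all s c).eq, mul_inv_cancel_right]
  exact R.isU_Z c

theorem nrm_all (s : SL(2, Fx F)) : R.Nrm s := by
  have hun : ∀ c, R.Nrm (un c) := fun c => R.nrm_of (fun u => ⟨_, _, _, R.UY_all c u⟩) fun u => by
    rw [MulAut.conj_apply, (R.UX_all c u).eq, mul_inv_cancel_right]; exact R.isU_X u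
  have hdg : ∀ l, R.Nrm (dg l) := fun l => R.nrm_of (fun u => by rw [← rL, R.L_Y]; exact R.isU_Y _)
    fun u => by rw [← rL, R.L_X]; exact R.isU_X _
  have htw : R.Nrm tw := R.nrm_of (fun u => R.isU_X u) fun u => by
    rw [rX, cj_mul, ← map_mul, tw_tw, ← rL, R.L_Y]; exact R.isU_Y _
  rcases exists_bruhat s with ⟨x, l, rfl⟩ | ⟨x, l, y, rfl⟩
  · exact R.nrm_mul (hun x) (hdg l)
  · exact R.nrm_mul (R.nrm_mul (R.nrm_mul (hun x) (hdg l)) htw) (hun y)

omit [Finite F] in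
theorem rD_inv (t : Fˣ) : (rD φ t)⁻¹ = rD φ t⁻¹ :=
  inv_eq_of_mul_eq_one_right (by rw [rD, rD, ← map_mul, ← dg_mul, mul_inv_cancel, dg_one, map_one])

theorem normal_form {x : H} (hx : x ∈ R.A) :
    ∃ (u β : F) (c : Fx F) (s : SL(2, Fx F)) (t : Fˣ),
      x = rY φ u * rX φ ψ β * rZ φ ψ c * ψ s * rD φ t := by
  suffices h : ∃ (U : H) (s : SL(2, Fx F)) (t : Fˣ), R.IsU U ∧ x = U * ψ s * rD φ t by
    obtain ⟨_, s, t, ⟨u, β, c, rfl⟩, e⟩ := h
    exact ⟨u, β, c, s, t, e⟩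
  let Q : H → Prop := fun y => ∃ (U : H) (s : SL(2, Fx F)) (t : Fˣ), R.IsU U ∧ y = U * ψ s * rD φ t
  have stepU : ∀ g, R.IsU g → ∀ y, Q y → Q (g * y) := by
    rintro g hg _ ⟨U, s, t, hU, rfl⟩
    exact ⟨g * U, s, t, R.isU_mul hg hU, by simp only [mul_assoc]⟩
  have stepψ : ∀ g y, Q y → Q (ψ g * y) := by
    rintro g _ ⟨U, s, t, hU, rfl⟩
    exact ⟨MulAut.conj (ψ g) U, g * s, t, R.nrm_all g U hU, by rw [MulAut.conj_apply, map_mul]; group⟩
  have stepD : ∀ r y, Q y → Q (rD φ r * y) := by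
    rintro r _ ⟨U, s, t, hU, rfl⟩
    refine ⟨MulAut.conj (rD φ r) U, scale (nrmU r) s, r * t, R.isU_conj_D r hU, ?_⟩
    rw [← R.act, MulAut.conj_apply, MulAut.conj_apply, show rD φ (r * t) = rD φ r * rD φ t by
      rw [rD, dg_mul, map_mul]; rfl]
    group
  have hY : ∀ u, (rY φ u)⁻¹ = rY φ (-u) := fun u =>
    inv_eq_of_mul_eq_one_right (by rw [← Y_add, add_neg_cancel, Y_zero])
  have hX : ∀ u, (rX φ ψ u)⁻¹ = rX φ ψ (-u) := fun u =>
    inv_eq_of_mul_eq_one_right (by rw [← X_add, add_neg_cancel, X_zero])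
  have hZ : ∀ c, (rZ φ ψ c)⁻¹ = rZ φ ψ (-c) := fun c =>
    inv_eq_of_mul_eq_one_right (by rw [← Z_add, add_neg_cancel, Z_zero])
  induction hx using Subgroup.closure_induction_left with
  | one => exact ⟨rY φ 0, 1, 1, R.isU_Y 0, by rw [Y_zero, map_one, rD, dg_one, map_one, one_mul, one_mul]⟩
  | mul_left g hg y _ ih =>
    rcases hg with (((⟨u, rfl⟩ | ⟨u, rfl⟩) | ⟨c, rfl⟩) | ⟨s, rfl⟩) | ⟨t, rfl⟩
    · exact stepU _ (R.isU_Y u) y ih
    · exact stepU _ (R.isU_X u) y ih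
    · exact stepU _ (R.isU_Z c) y ih
    · exact stepψ s y ih
    · exact stepD t y ih
  | inv_mul_cancel g hg y _ ih =>
    rcases hg with (((⟨u, rfl⟩ | ⟨u, rfl⟩) | ⟨c, rfl⟩) | ⟨s, rfl⟩) | ⟨t, rfl⟩
    · rw [hY]; exact stepU _ (R.isU_Y _) y ih
    · rw [hX]; exact stepU _ (R.isU_X _) y ih
    · rw [hZ]; exact stepU _ (R.isU_Z _) y ih
    · rw [← map_inv]; exact stepψ _ y ih
    · rw [R.rD_inv]; exact stepD _ y ih

theorem π_form (u β : F) (c : Fx F) (s : SL(2, Fx F)) (t : Fˣ) :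
    R.π (rY φ u * rX φ ψ β * rZ φ ψ c * ψ s * rD φ t) = rY lev u * rX lev (psi hδ hδ') β *
      rZ lev (psi hδ hδ') c * psi hδ hδ' s * rD lev t := by
  simp only [rY, rX, rZ, rD, MulAut.conj_apply, map_mul, map_inv, R.hφ, R.hψ]

theorem φtw_conj_mem {x : H} (u β : F) (c : Fx F) (s : SL(2, Fx F)) (t : Fˣ)
    (hx : x = rY φ u * rX φ ψ β * rZ φ ψ c * ψ s * rD φ t) (hu : u = 0) (hs : (s.1 1 0 : Fx F) = 0) :
    (φ tw)⁻¹ * x * φ tw ∈ R.A := by
  have hi : ∀ y, MulAut.conj (φ tw)⁻¹ y = (φ tw)⁻¹ * y * φ tw := fun y => by rw [MulAut.conj_apply, inv_inv]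
  have cancel : ∀ y, MulAut.conj (φ tw)⁻¹ (MulAut.conj (φ tw) y) = y := fun y => by
    rw [cj_mul, inv_mul_cancel, map_one]; rfl
  have hd : s.1 0 0 * s.1 1 1 = 1 := by
    have := s.2; rw [Matrix.det_fin_two, hs] at this; simpa using this
  set a : (Fx F)ˣ := Units.mk0 (s.1 0 0) (left_ne_zero_of_mul_eq_one hd)
  have hs' : s = dg a * un (s.1 0 1 / s.1 0 0) := by
    apply Matrix.SpecialLinearGroup.ext
    intro i j
    simp only [Matrix.SpecialLinearGroup.coe_mul]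
    have ha : s.1 0 0 ≠ 0 := left_ne_zero_of_mul_eq_one hd
    fin_cases i <;> fin_cases j <;> simp [dg, un, a, Matrix.mul_apply, Fin.sum_univ_two, hs]
    · field_simp
    · exact eq_inv_of_mul_eq_one_right hd
  rw [← hi, hx, hu, Y_zero, one_mul, map_mul, map_mul, map_mul, hs', map_mul, map_mul, ← rL]
  refine mul_mem (mul_mem (mul_mem ?_ ?_) (mul_mem ?_ ?_)) ?_
  · rw [show rX φ ψ β = MulAut.conj (φ tw) (rX φ ψ (-star β)) by
      rw [R.WX_all, star_neg, star_star, neg_neg], cancel]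
    exact R.X_mem _
  · rw [rZ, cancel]; exact R.ψ_mem _
  · rw [hi, mul_assoc, R.L_twφ, mul_assoc, ← mul_assoc, show (φ tw)⁻¹ * rD φ (uF a) = rD φ (uF a)⁻¹ * (φ tw)⁻¹ by
      rw [rD, rD, ← map_inv, ← map_mul, ← map_mul, tw_tw_inv, mul_assoc, tw_dg, ← mul_assoc, ← dg_mul,
        mul_comm, dg_mul, mul_assoc], mul_assoc, inv_mul_cancel_left]
    exact mul_mem (R.D_mem _) (R.ψ_mem _)
  · rw [← map_inv, tw_tw_inv, map_mul, ← cj_mul, ← rD]
    show MulAut.conj (rD φ (-1)) (rZ φ ψ _) ∈ R.A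
    rw [R.D_Z]
    exact R.Z_mem _
  · rw [hi, rD, ← map_inv, ← map_mul, ← map_mul, mul_assoc, show dg t * (tw : SL(2, F)) = tw * dg t⁻¹ by
      rw [tw_dg, inv_inv], inv_mul_cancel_left]
    exact R.D_mem t⁻¹

omit R in
theorem fix_P1 {g : G4 F} (h : g • P1 F = P1 F) : ∃ k : F, g.1.1 *ᵥ b1 = k • b1 := by
  rw [P1, smul_pt] at h
  obtain ⟨c, hc⟩ := pt_eq.1 h.symm
  exact ⟨c, hc⟩

omit R in
theorem fix_P0 {g : G4 F} (h : g • P0 F = P0 F) : ∃ k : F, g.1.1 *ᵥ b0 = k • b0 := by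
  rw [P0, smul_pt] at h
  obtain ⟨c, hc⟩ := pt_eq.1 h.symm
  exact ⟨c, hc⟩

omit R in
theorem smul_tw : lev (tw : SL(2, F)) • P1 F = P0 F := by
  refine smul_eq_pt 1 ?_
  rw [b1, lev_act]
  simp [tw, b0]

omit R in
include hδ hδ' in
theorem common_nbr (S T : Pt F) : ∃ w, Col S w ∧ Col w T := by
  obtain ⟨g, hg⟩ := exists_smul hδ hδ' S
  suffices h : ∃ w, Col (P1 F) w ∧ Col w (g • T) by
    obtain ⟨w, h1, h2⟩ := h
    refine ⟨g⁻¹ • w, ?_, ?_⟩
    · have := col_smul g⁻¹ h1; rwa [← hg, inv_smul_smul] at this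
    · have := col_smul g⁻¹ h2; rwa [inv_smul_smul] at this
  have h10 : Col (P1 F) (P0 F) := col_pt.2 ⟨fun e => by
    obtain ⟨c, hc⟩ := pt_eq.1 e; simpa [b0, b1] using congrFun hc 0, by simp [hf, b0, b1]⟩
  rcases orbits hδ hδ' (g • T) with e | ⟨x, hx, hx0 | hx3⟩
  · exact ⟨P0 F, h10, by rw [e]; exact col_symm h10⟩
  · let w : Pt F := pt ![1, 1, 0, 0] (fun h => by simpa using congrFun h 0) (by simp [hf])
    have h1 : Col (P1 F) w := col_pt.2 ⟨fun e => by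
      obtain ⟨c, hc⟩ := pt_eq.1 e; simpa [b1] using congrFun hc 0, by simp [hf, b1]⟩
    have h2 : Col w (P0 F) := col_pt.2 ⟨fun e => by
      obtain ⟨c, hc⟩ := pt_eq.1 e
      have h0 := congrFun hc 0
      have h1 := congrFun hc 1
      simp [b0] at h0 h1
      exact one_ne_zero (h0.trans h1.symm), by simp [hf, b0]⟩
    exact ⟨x • w, hx ▸ col_smul x h1, hx0 ▸ col_smul x h2⟩
  · have h03 : Col (P0 F) (P3 F) := col_pt.2 ⟨fun e => by
      obtain ⟨c, hc⟩ := pt_eq.1 e; simpa [b0, b3] using congrFun hc 3, by simp [hf, b0, b3]⟩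
    exact ⟨x • P0 F, hx ▸ col_smul x h10, hx3 ▸ col_smul x h03⟩

/-- The covering data. -/
def cover : CoverData H (G4 F) (Pt F) where
  π := R.π
  adj := Col
  symm _ _ := col_symm
  inv g _ _ := col_smul g
  a₀ := P1 F
  A := R.A
  t := φ tw
  fix x hx := by
    obtain ⟨u, β, c, s, t, rfl⟩ := R.normal_form hx
    rw [R.π_form]
    refine smul_eq_pt (t : F)⁻¹ ?_
    rw [b1, form_act]
    simp
  inj x hx h := by
    obtain ⟨u, β, c, s, t, rfl⟩ := R.normal_form hx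
    rw [R.π_form] at h
    obtain ⟨rfl, rfl, rfl, rfl, rfl⟩ := decomp_unique hδ hδ' h
    rw [Y_zero, X_zero, Z_zero, map_one, rD, dg_one, map_one]
    group
  onto g h := by
    obtain ⟨k, hk⟩ := fix_P1 h
    obtain ⟨u, β, c, s, t, e⟩ := decomp hδ hδ' hk
    exact ⟨_, mul_mem (mul_mem (mul_mem (mul_mem (R.Y_mem u) (R.X_mem β)) (R.Z_mem c)) (R.ψ_mem s)) (R.D_mem t),
      by rw [R.π_form, e]⟩
  edge := by
    rw [R.hφ, smul_tw]
    exact col_pt.2 ⟨fun e => by obtain ⟨c, hc⟩ := pt_eq.1 e; simpa [b0, b1] using congrFun hc 0,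
      by simp [hf, b0, b1]⟩
  tr_edge S hS := by
    rw [R.hφ, smul_tw]
    rcases orbits hδ hδ' S with e | ⟨g, hg, h0 | h3⟩
    · exact absurd e.symm hS.1
    · exact ⟨g, hg, h0⟩
    · exfalso
      subst h3
      have := col_smul g⁻¹ hS
      rw [inv_smul_smul, show g⁻¹ • P1 F = P1 F from inv_smul_eq_iff.2 hg.symm] at this
      simpa [hf, b1, b3] using (col_pt.1 this).2
  stab₂ g h1 h2 := by
    rw [R.hφ, smul_tw] at h2
    obtain ⟨k, hk⟩ := fix_P1 h1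
    obtain ⟨u, β, c, s, t, e⟩ := decomp hδ hδ' hk
    obtain ⟨k', hk'⟩ := fix_P0 h2
    rw [e, b0, form_act] at hk'
    simp at hk'
    obtain ⟨-, h10, h20⟩ := hk'
    have hs : (s.1 1 0 : F) = 0 := by simpa [hδ] using h20
    rw [hs] at h10
    have hs00 : (s.1 0 0 : F) ≠ 0 := by
      have := congrArg (Subtype.val : Fx F → F) ((Matrix.det_fin_two _).symm.trans s.2)
      intro h0
      simp [h0, hs] at this
    have hu : u = 0 := by simpa [hs00] using h10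
    refine ⟨_, mul_mem (mul_mem (mul_mem (mul_mem (R.Y_mem u) (R.X_mem β)) (R.Z_mem c)) (R.ψ_mem s))
      (R.D_mem t), by rw [R.π_form, e], R.φtw_conj_mem u β c s t rfl hu (Subtype.ext hs)⟩
  back := ⟨rD φ (-1), R.D_mem _, by rw [rD, ← map_mul, ← map_mul, tw_dg_tw, map_one]; exact one_mem _⟩
  gen := by
    rw [eq_top_iff, ← R.gen]
    refine sup_le ?_ ?_
    · rintro _ ⟨g, rfl⟩
      set T := Subgroup.closure ((R.A : Set H) ∪ {φ tw})
      have hA : ∀ x ∈ R.A, x ∈ T := fun x hx => Subgroup.subset_closure (Or.inl hx)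
      have htw : φ tw ∈ T := Subgroup.subset_closure (Or.inr rfl)
      have hun : ∀ c, φ (un c) ∈ T := fun c => by
        rw [un_conj, map_mul, map_mul, map_inv]
        exact mul_mem (mul_mem htw (hA _ (R.Y_mem _))) (inv_mem htw)
      rcases exists_bruhat g with ⟨x, l, rfl⟩ | ⟨x, l, y, rfl⟩
      · rw [map_mul]; exact mul_mem (hun x) (hA _ (R.D_mem l))
      · rw [map_mul, map_mul, map_mul]; exact mul_mem (mul_mem (mul_mem (hun x) (hA _ (R.D_mem l))) htw) (hun y)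
    · rintro _ ⟨s, rfl⟩
      exact Subgroup.subset_closure (Or.inl (R.ψ_mem s))
  common := common_nbr (hδ := hδ) (hδ' := hδ')

theorem cover_t_pt : R.cover.π R.cover.t • R.cover.a₀ = P0 F := by
  show R.π (φ tw) • P1 F = _
  rw [R.hφ, smul_tw]

theorem triOK : R.cover.TriOK := by
  refine R.cover.triOK_of_base fun S h1 h2 => ?_
  rw [R.cover_t_pt] at h2
  obtain ⟨v, hv, hv', rfl⟩ := exists_pt S
  obtain ⟨a, b, c, d, rfl⟩ : ∃ a b c d : F, v = ![a, b, c, d] := ⟨_, _, _, _, vec_ext⟩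
  obtain ⟨n1, e1⟩ := col_pt.1 (show Col (P1 F) _ from h1)
  obtain ⟨n0, e0⟩ := col_pt.1 h2
  simp [hf, b0, b1] at e1 e0
  subst e1 e0
  have ha : a ≠ 0 := fun h => n1 (pt_eq.2 ⟨b, by simp [h, b1]⟩)
  have hb : b ≠ 0 := fun h => n0 (pt_eq.2 ⟨a, by simp [h, b0]⟩)
  set r : Fˣ := Units.mk0 (b / a) (div_ne_zero hb ha)
  refine ⟨((rY φ (r : F) * φ tw : H) : H ⧸ R.A), ⟨φ tw * rY φ (-((r⁻¹ : Fˣ) : F)), ?_, ?_⟩, ?_, ?_⟩
  · exact (R.cover.mk_mul_mem _ (R.Y_mem _)).symm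
  · show ((rY φ (r : F) * φ tw : H) : H ⧸ R.A) = _
    rw [rY, ← map_mul, triangle_identity, map_mul, map_mul, map_mul,
      show φ (dg (-r⁻¹) * ln (-((r⁻¹ : Fˣ) : F))) = rD φ (-r⁻¹) * rY φ (-((r⁻¹ : Fˣ) : F)) from map_mul φ _ _]
    exact R.cover.mk_mul_mem _ (mul_mem (R.D_mem _) (R.Y_mem _))
  · show R.π (rY φ (r : F) * φ tw) • P1 F = _
    rw [map_mul, mul_smul, R.hφ, smul_tw, rY, R.hφ, ← rY]
    refine smul_eq_pt a⁻¹ ?_
    rw [b0, Y_act]
    simp [r, ha, div_eq_inv_mul]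
  · refine R.cover.E_symm ⟨rY φ (r : F), (QuotientGroup.eq.2 ?_), rfl⟩
    show _ ∈ R.A
    simpa using R.Y_mem (r : F)

theorem agree_base {b v v' : Pt F}
    (h : ∀ Q R' Q' S', R.cover.E ((1 : H) : H ⧸ R.A) Q → R.cover.p Q = v → R.cover.E Q R' → R.cover.p R' = b →
      R.cover.E ((1 : H) : H ⧸ R.A) Q' → R.cover.p Q' = v' → R.cover.E Q' S' → R.cover.p S' = b → R' = S') :
    R.cover.Agree R.cover.a₀ b v v' := by
  intro P Q R₁ Q' R₂ hP h1 h2 h3 h4 h5 h6 h7 h8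
  obtain ⟨x, rfl⟩ := QuotientGroup.mk_surjective P
  obtain ⟨k, hk, hkx⟩ := R.cover.onto (R.cover.π x) (by rwa [CoverData.p_mk] at hP)
  set y := x * k⁻¹ with hy
  have hy1 : R.cover.π y = 1 := by rw [hy, map_mul, map_inv, hkx, mul_inv_cancel]
  have hyP : y⁻¹ • ((x : H) : H ⧸ R.A) = ((1 : H) : H ⧸ R.A) := by
    show ((y⁻¹ * x : H) : H ⧸ R.A) = _
    rw [hy, _root_.mul_inv_rev, inv_inv, inv_mul_cancel_right]
    have hk' : k ∈ R.A := hk
    exact (QuotientGroup.eq.2 (by simpa using hk')).symm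
  have hp : ∀ S c, R.cover.p S = c → R.cover.p (y⁻¹ • S) = c := fun S c e => by
    rw [R.cover.p_smul, map_inv, hy1, inv_one, one_smul, e]
  have e1 := R.cover.E_smul h1 y⁻¹
  have e5 := R.cover.E_smul h5 y⁻¹
  change R.cover.E (y⁻¹ • ((x : H) : H ⧸ R.A)) _ at e1
  change R.cover.E (y⁻¹ • ((x : H) : H ⧸ R.A)) _ at e5
  rw [hyP] at e1 e5
  exact MulAction.injective y⁻¹ (h _ _ _ _ e1 (hp _ _ h2) (R.cover.E_smul h3 _) (hp _ _ h4) e5 (hp _ _ h6)
    (R.cover.E_smul h7 _) (hp _ _ h8))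

omit R in
theorem col_10 : Col (P1 F) (P0 F) := col_pt.2 ⟨fun e => by
  obtain ⟨c, hc⟩ := pt_eq.1 e; simpa [b0, b1] using congrFun hc 0, by simp [hf, b0, b1]⟩

omit R in
theorem ψtw_act : (psi hδ hδ' (tw : SL(2, Fx F))).1.1 *ᵥ b0 = (-δ⁻¹) • b2 := by
  rw [b0, psi_act]
  simp [tw, b2]
  ring

theorem frame_agree : R.cover.Agree R.cover.a₀ (P3 F) (P0 F) (P2 F) := by
  refine R.agree_base fun Q R₁ Q' R₂ h1 h2 h3 h4 h5 h6 h7 h8 => ?_
  set a := φ tw with ha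
  set b := ψ tw with hb
  have hbA : b ∈ R.A := R.ψ_mem _
  have pa : ∀ (y : H) (S : Pt F), S = R.π y • P1 F → R.cover.p (y : H ⧸ R.A) = S := fun y S e => e.symm
  have hb0 : psi hδ hδ' (tw : SL(2, Fx F)) • P0 F = P2 F := smul_eq_pt _ ψtw_act
  have hb3 : psi hδ hδ' (tw : SL(2, Fx F)) • P3 F = P3 F := by
    refine smul_eq_pt 1 ?_
    rw [b3, psi_act]
    simp
  have ha2 : lev (tw : SL(2, F)) • P2 F = P3 F := by
    refine smul_eq_pt (-1) ?_
    rw [b2, lev_act]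
    simp [tw, b3]
  have hb1 : psi hδ hδ' (tw : SL(2, Fx F)) • P1 F = P1 F := by
    refine smul_eq_pt 1 ?_
    rw [b1, psi_act]
    simp
  have q1 : Q = ((a : H) : H ⧸ R.A) := R.cover.lift_unique h1 ⟨1, rfl, by rw [one_mul]; rfl⟩
    (h2.trans (pa a _ (by rw [R.hφ, smul_tw])).symm)
  have q2 : R₁ = ((a * b * a : H) : H ⧸ R.A) := by
    subst q1
    refine R.cover.lift_unique h3 ⟨a * b, (R.cover.mk_mul_mem a hbA).symm, rfl⟩ (h4.trans (pa _ _ ?_).symm)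
    rw [map_mul, map_mul, mul_smul, mul_smul, R.hφ, R.hψ, smul_tw, hb0, ha2]
  have q3 : Q' = ((b * a : H) : H ⧸ R.A) := by
    refine R.cover.lift_unique h5 ⟨b, (QuotientGroup.eq.2 ?_), rfl⟩ (h6.trans (pa _ _ ?_).symm)
    · show _ ∈ R.A
      simpa using hbA
    · rw [map_mul, mul_smul, R.hφ, R.hψ, smul_tw, hb0]
  have q4 : R₂ = ((b * a * b * a : H) : H ⧸ R.A) := by
    subst q3
    refine R.cover.lift_unique h7 ⟨b * a * b, (R.cover.mk_mul_mem (b * a) hbA).symm, rfl⟩ (h8.trans (pa _ _ ?_).symm)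
    rw [map_mul, map_mul, map_mul, mul_smul, mul_smul, mul_smul, R.hφ, R.hψ, smul_tw, hb0, ha2, hb3]
  have ea : a⁻¹ = rD φ (-1) * a := by rw [ha, ← map_inv, tw_tw_inv, map_mul]; rfl
  have hDb : rD φ (-1) * b = b * rD φ (-1) := by
    rw [R.D_twψ, show nrmU (-1 : Fˣ) = 1 from Units.ext (Subtype.ext (by simp)), rL, dg_one, map_one, one_mul]
  have ht : b * (a * b * a⁻¹) = a * b * a⁻¹ * b := R.tt.eq
  rw [ea] at ht
  have hd : rD φ (-1) * a = a * rD φ (-1) := by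
    rw [ha, rD, ← map_mul, ← map_mul, tw_dg, show (-1 : Fˣ)⁻¹ = -1 by simp]
  have key : b * a * b * a = a * b * a * b := by
    rw [hd, mul_assoc (a * b) _ b, mul_assoc a (rD φ (-1)) b, hDb] at ht
    simp only [← mul_assoc] at ht
    exact mul_right_cancel ht
  rw [q2, q4, key]
  exact (R.cover.mk_mul_mem (a * b * a) hbA).symm

theorem quad (a b v v' : Pt F) (hav : Col a v) (hvb : Col v b) (hav' : Col a v') (hvb' : Col v' b) :
    R.cover.Agree a b v v' := by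
  by_cases hvv : v = v'
  · subst hvv; exact R.cover.agree_refl _ _ _
  by_cases hcol : Col v v'
  · exact R.cover.agree_of_adj R.triOK hcol
  obtain ⟨g, hg⟩ := exists_smul hδ hδ' a
  rcases orbits hδ hδ' (g • b) with e | ⟨x, hx, h0 | h3⟩
  · have : b = a := MulAction.injective g (e.trans hg.symm)
    subst this
    intro P Q R₁ Q' R₂ hP h1 h2 h3 h4 h5 h6 h7 h8
    rw [R.cover.lift_unique h3 (R.cover.E_symm h1) (h4.trans hP.symm),
      R.cover.lift_unique h7 (R.cover.E_symm h5) (h8.trans hP.symm)]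
  · refine R.cover.agree_swap (R.cover.agree_of_adj R.triOK ?_)
    have := col_smul g⁻¹ (col_smul x (col_10 (F := F)))
    rwa [h0, hx, inv_smul_smul, inv_smul_eq_iff.2 hg.symm] at this
  set h := x⁻¹ * g with hh
  have ha' : h • a = P1 F := by rw [hh, mul_smul, hg, inv_smul_eq_iff, hx]
  have hb' : h • b = P3 F := by rw [hh, mul_smul, ← h3, inv_smul_smul]
  have key : ∀ S, Col a S → Col S b → ∃ α γ : F, ∃ k k', h • S = pt ![α, 0, γ, 0] k k' := by
    intro S h1 h2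
    obtain ⟨w, hw, hw', e⟩ := exists_pt (h • S)
    obtain ⟨α, β, γ, ε, rfl⟩ : ∃ α β γ ε : F, w = ![α, β, γ, ε] := ⟨_, _, _, _, vec_ext⟩
    have c1 := col_smul h h1
    have c2 := col_symm (col_smul h h2)
    rw [ha', e] at c1
    rw [hb', e] at c2
    obtain ⟨-, c1⟩ := col_pt.1 c1
    obtain ⟨-, c2⟩ := col_pt.1 c2
    simp [hf, b1, b3] at c1 c2
    subst_vars
    exact ⟨α, γ, _, _, e⟩
  suffices main : R.cover.Agree (P1 F) (P3 F) (h • v) (h • v') by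
    have := R.cover.agree_smul main h⁻¹
    rwa [inv_smul_smul, inv_smul_smul, ← ha', inv_smul_smul, ← hb', inv_smul_smul] at this
  obtain ⟨α, γ, k, k', ev⟩ := key v hav hvb
  obtain ⟨s, hs⟩ : ∃ s : SL(2, Fx F), psi hδ hδ' s • P0 F = h • v := by
    have hiso : star α * γ + star γ * α = 0 := by simpa [hf] using k'
    by_cases hα : α = 0
    · subst hα
      have hγ : γ ≠ 0 := fun e => k (by simp [e])
      refine ⟨tw, ?_⟩
      rw [ev]
      refine smul_eq_pt (-(δ * γ)⁻¹) ?_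
      rw [ψtw_act]
      simp [b2]
      field_simp
    · have hr : star (γ / α * δ) = γ / α * δ := by
        have : star α ≠ 0 := star_ne_zero.2 hα
        rw [star_mul', star_div₀, hδ']
        field_simp
        linear_combination (-1) * hiso
      refine ⟨ln ⟨γ / α * δ, hr⟩, ?_⟩
      rw [ev]
      refine smul_eq_pt α⁻¹ ?_
      rw [b0, psi_act]
      simp [ln]
      exact ⟨by field_simp, by field_simp⟩
  have f1 : psi hδ hδ' s • P1 F = P1 F := smul_eq_pt 1 (by rw [b1, psi_act]; simp)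
  have f3 : psi hδ hδ' s • P3 F = P3 F := smul_eq_pt 1 (by rw [b3, psi_act]; simp)
  suffices main : R.cover.Agree (P1 F) (P3 F) (P0 F) ((psi hδ hδ' s)⁻¹ • h • v') by
    have := R.cover.agree_smul main (psi hδ hδ' s)
    rwa [f1, f3, hs, smul_inv_smul] at this
  obtain ⟨α', γ', m, m', ev'⟩ := key v' hav' hvb'
  obtain ⟨w, hw, hw', ew⟩ := exists_pt ((psi hδ hδ' s)⁻¹ • h • v')
  rw [ev', smul_pt] at ew
  obtain ⟨c, hc⟩ := pt_eq.1 ew
  obtain ⟨α'', γ'', rfl⟩ : ∃ α'' γ'' : F, w = ![α'', 0, γ'', 0] := by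
    rw [← map_inv, psi_act] at hc
    refine ⟨w 0, w 2, ?_⟩
    funext i
    fin_cases i <;> simp [hc]
  have hγ : γ'' ≠ 0 := by
    intro hγ0
    subst hγ0
    have e0 : (psi hδ hδ' s)⁻¹ • h • v' = P0 F := by
      rw [ev', smul_pt, ew]
      exact (pt_eq.2 ⟨α'', by simp [b0]⟩).symm
    exact hvv (MulAction.injective h (hs.symm.trans (inv_smul_eq_iff.1 e0).symm))
  have hiso : star α'' * γ'' + star γ'' * α'' = 0 := by simpa [hf] using hw'
  have hr : star (α'' / γ'' / δ) = α'' / γ'' / δ := by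
    have : star γ'' ≠ 0 := star_ne_zero.2 hγ
    rw [star_div₀, star_div₀, hδ', div_eq_div_iff (neg_ne_zero.2 hδ) hδ]
    field_simp
    linear_combination hiso
  set u : G4 F := psi hδ hδ' (un ⟨α'' / γ'' / δ, hr⟩) with hu
  have u1 : u • P1 F = P1 F := smul_eq_pt 1 (by rw [b1, psi_act]; simp)
  have u3 : u • P3 F = P3 F := smul_eq_pt 1 (by rw [b3, psi_act]; simp)
  have u0 : u • P0 F = P0 F := smul_eq_pt 1 (by rw [b0, psi_act]; simp [un])
  have u2 : u • P2 F = (psi hδ hδ' s)⁻¹ • h • v' := by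
    rw [ev', smul_pt _ ![α', 0, γ', 0], ew]
    refine smul_eq_pt γ''⁻¹ ?_
    rw [b2, psi_act]
    simp [un]
    exact ⟨by field_simp, by field_simp⟩
  have := R.cover.agree_smul R.frame_agree u
  rwa [show R.cover.a₀ = P1 F from rfl, u1, u3, u0, u2] at this

omit R in
include hδ hδ' in
theorem three (a b c : Pt F) (hbc : Col b c) :
    (∃ x, Col a x ∧ Col x b ∧ Col x c) ∨ Col a b ∨ Col a c := by
  obtain ⟨g, hg⟩ := exists_smul hδ hδ' b
  obtain ⟨h, hb', hc'⟩ : ∃ h : G4 F, h • b = P1 F ∧ h • c = P0 F := by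
    rcases orbits hδ hδ' (g • c) with e | ⟨x, hx, h0 | h3⟩
    · exact absurd (MulAction.injective g (hg.trans e.symm)) hbc.1
    · exact ⟨x⁻¹ * g, by rw [mul_smul, hg, inv_smul_eq_iff, hx], by rw [mul_smul, ← h0, inv_smul_smul]⟩
    · exfalso
      have := col_smul x⁻¹ (col_smul g hbc)
      rw [hg, show x⁻¹ • P1 F = P1 F from inv_smul_eq_iff.2 hx.symm, ← h3, inv_smul_smul] at this
      simpa [hf, b1, b3] using (col_pt.1 this).2
  suffices main : (∃ x, Col (h • a) x ∧ Col x (P1 F) ∧ Col x (P0 F)) ∨ Col (h • a) (P1 F) ∨ Col (h • a) (P0 F) by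
    have back : ∀ S T, Col (h • S) T → Col S (h⁻¹ • T) := fun S T e => by
      have := col_smul h⁻¹ e; rwa [inv_smul_smul] at this
    rw [← hb', ← hc'] at main
    rcases main with ⟨x, h1, h2, h3⟩ | h1 | h1
    · refine Or.inl ⟨h⁻¹ • x, back _ _ h1, ?_, ?_⟩
      · have := col_smul h⁻¹ h2; rwa [inv_smul_smul] at this
      · have := col_smul h⁻¹ h3; rwa [inv_smul_smul] at this
    · have := back _ _ h1; rw [inv_smul_smul] at this; exact Or.inr (Or.inl this)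
    · have := back _ _ h1; rw [inv_smul_smul] at this; exact Or.inr (Or.inr this)
  obtain ⟨v, hv, hv', e⟩ := exists_pt (h • a)
  rw [e]
  obtain ⟨α, β, γ, ε, rfl⟩ : ∃ α β γ ε : F, v = ![α, β, γ, ε] := ⟨_, _, _, _, vec_ext⟩
  by_cases hε : ε = 0
  · by_cases hne : pt ![α, β, γ, ε] hv hv' = P1 F
    · exact Or.inr (Or.inr (by rw [hne]; exact col_10))
    · refine Or.inr (Or.inl (col_pt.2 ⟨hne, ?_⟩))
      simp [hf, b1, hε]
  by_cases hγ : γ = 0
  · by_cases hne : pt ![α, β, γ, ε] hv hv' = P0 F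
    · exact Or.inr (Or.inl (by rw [hne]; exact col_symm col_10))
    · refine Or.inr (Or.inr (col_pt.2 ⟨hne, ?_⟩))
      simp [hf, b0, hγ]
  refine Or.inl ⟨pt ![star ε, -star γ, 0, 0] (fun e => hε (by simpa using congrFun e 0)) (by simp [hf]),
    col_pt.2 ⟨fun e => ?_, ?_⟩, col_pt.2 ⟨fun e => ?_, ?_⟩, col_pt.2 ⟨fun e => ?_, ?_⟩⟩
  · obtain ⟨k, hk⟩ := pt_eq.1 e
    have h2 := congrFun hk 2
    have h0 := congrFun hk 0
    simp [hγ] at h2
    subst h2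
    simp [hε] at h0
  · simp [hf]; ring
  · obtain ⟨k, hk⟩ := pt_eq.1 e
    have h0 := congrFun hk 0
    simp [b1, hε] at h0
    subst h0
    simpa [b1] using congrFun hk 1
  · simp [hf, b1]
  · obtain ⟨k, hk⟩ := pt_eq.1 e
    have h1 := congrFun hk 1
    simp [b0, hγ] at h1
    subst h1
    simpa [b0] using congrFun hk 0
  · simp [hf, b0]

/-- The relations present the special unitary group of the hyperbolic form. -/
theorem bijective : Function.Bijective R.π :=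
  R.cover.bijective R.triOK R.quad (three (hδ := hδ) (hδ' := hδ'))

end Rels

end Cfsg.Agent.Small.SUPres.U4
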