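import Cfsg.Agent.Lib.Small.SUPres.U4.Rels

/-!
Fewer relations between the two rank one subgroups: one seed for each kind of root element suffices.
-/

set_option autoImplicit false
set_option linter.unusedSectionVars false
set_option linter.unusedSimpArgs false

namespace Cfsg.Agent.Small.SUPres.U4

open Matrix Cfsg.Agent.Lead.SL2Pres
open scoped MatrixGroups

variable {F : Type*} [Field F] [StarRing F] [Finite F] {H : Type*} [Group H] {φ : SL(2, F) →* H}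
  {ψ : SL(2, Fx F) →* H} {δ : F} {hδ : δ ≠ 0} {hδ' : star δ = -δ}

/-- The seeds. -/
structure Seeds (φ : SL(2, F) →* H) (ψ : SL(2, Fx F) →* H) (δ : F) (t₀ : Fˣ) (hδ : δ ≠ 0) (hδ' : star δ = -δ)
    extends Base φ ψ δ (star (t₀ : F) / (t₀ : F)) hδ hδ' where
  ux1 : Commute (ψ (un 1)) (rX φ ψ 1)
  uy1 : MulAut.conj (ψ (un 1)) (rY φ 1) = rY φ 1 * rX φ ψ 1 * rZ φ ψ (nrm 1)
  wx1 : MulAut.conj (φ tw) (rX φ ψ 1) = rX φ ψ (-star 1)
  yx1 : star ((star (t₀ : F) / (t₀ : F)) ^ 2) = (star (t₀ : F) / (t₀ : F)) ^ 2 →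
    rY φ 1 * rX φ ψ (star (t₀ : F) / (t₀ : F)) =
      rZ φ ψ (tr2 1 (star (t₀ : F) / (t₀ : F))) * rX φ ψ (star (t₀ : F) / (t₀ : F)) * rY φ 1

namespace Seeds

open Base

variable {t₀ : Fˣ} (S : Seeds φ ψ δ t₀ hδ hδ')

include S

theorem ux_one (a c : Fx F) : Commute (ψ (un c)) (rX φ ψ (a : F)) := by
  have := S.UX_line 1 S.ux1 a c
  rwa [mul_one] at this

theorem wx_one (a : Fx F) : MulAut.conj (φ tw) (rX φ ψ (a : F)) = rX φ ψ (-(a : F)) := by
  have := S.WX_line 1 S.wx1 a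
  rwa [mul_one, star_fx] at this

theorem xz_one (a c : Fx F) : Commute (rX φ ψ (a : F)) (rZ φ ψ c) := by
  have h := (S.ux_one (-a) c).map (MulAut.conj (φ tw))
  rw [S.wx_one, NegMemClass.coe_neg, neg_neg] at h
  exact h.symm

theorem uy_one (a c : Fx F) : MulAut.conj (ψ (un c)) (rY φ (a : F)) =
    rY φ (a : F) * rX φ ψ ((c : F) * (a : F)) * rZ φ ψ (c * nrm (a : F)) := by
  have := S.UY_line 1 S.ux1 (fun a d => by rw [mul_one]; exact S.xz_one a d) S.uy1 a c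
  rwa [mul_one] at this

theorem yz_one (a c : Fx F) : Commute (rY φ (a : F)) (rZ φ ψ c) := by
  have h := (S.xz_one (-a) c).map (MulAut.conj (ψ tw))
  rw [show MulAut.conj (ψ tw) (rZ φ ψ c) = rZ φ ψ c by
    rw [MulAut.conj_apply, (S.zψ_all tw c).eq, mul_inv_cancel_right],
    show MulAut.conj (ψ tw) (rX φ ψ ((-a : Fx F) : F)) = rY φ (a : F) by
      rw [rX, cj_mul, ← map_mul, tw_tw, ← rL, S.L_Y]; simp] at h
  exact h

theorem t_ne : (t₀ : F) ≠ 0 := t₀.ne_zero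

theorem star_ω : star (star (t₀ : F) / (t₀ : F)) = (t₀ : F) / star (t₀ : F) := by rw [star_div₀, star_star]

theorem hN0 : nrm (t₀ : F) ≠ 0 := (nrmU t₀).ne_zero

theorem ux_ω : Commute (ψ (un 1)) (rX φ ψ (star (t₀ : F) / (t₀ : F))) := by
  have h := (S.ux_one 1 (nrm (t₀ : F))⁻¹).map (MulAut.conj (rD φ t₀))
  rw [S.D_un, S.D_X, mul_inv_cancel₀ S.hN0] at h
  simpa using h

theorem wx_ω : MulAut.conj (φ tw) (rX φ ψ (star (t₀ : F) / (t₀ : F))) =
    rX φ ψ (-star (star (t₀ : F) / (t₀ : F))) := by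
  have h := congrArg (MulAut.conj (rD φ t₀⁻¹)) (S.wx_one 1)
  rw [cj_mul, show rD φ t₀⁻¹ * φ tw = φ tw * rD φ t₀ by rw [rD, rD, ← map_mul, ← map_mul, tw_dg],
    ← cj_mul, S.D_X, S.D_X] at h
  rw [S.star_ω]
  simpa [Units.val_inv_eq_inv_val, star_inv₀, div_eq_mul_inv, mul_comm] using h

theorem yz_ω (c : Fx F) : Commute (rY φ (star (t₀ : F) / (t₀ : F))) (rZ φ ψ c) := by
  have h := (S.yz_one (nrm (t₀ : F)) (c * nrm (t₀ : F))).map (MulAut.conj (rD φ t₀))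
  rw [D_Y, S.D_Z, mul_div_cancel_right₀ _ S.hN0] at h
  have e : ((nrm (t₀ : F) : Fx F) : F) / (t₀ : F) ^ 2 = star (t₀ : F) / (t₀ : F) := by
    have := t₀.ne_zero
    simp
    field_simp
  rwa [e] at h

theorem uy_ω : MulAut.conj (ψ (un 1)) (rY φ (star (t₀ : F) / (t₀ : F))) =
    rY φ (star (t₀ : F) / (t₀ : F)) * rX φ ψ (star (t₀ : F) / (t₀ : F)) *
      rZ φ ψ (nrm (star (t₀ : F) / (t₀ : F))) := by
  have hN : nrm (t₀ : F) ≠ 0 := (nrmU t₀).ne_zero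
  have h := congrArg (MulAut.conj (rD φ t₀)) (S.uy_one (nrm (t₀ : F)) (nrm (t₀ : F))⁻¹)
  simp only [cj_cj, map_mul, S.D_un, D_Y, S.D_X, S.D_Z, mul_inv_cancel₀ hN] at h
  have e : ((nrm (t₀ : F) : Fx F) : F) / (t₀ : F) ^ 2 = star (t₀ : F) / (t₀ : F) := by
    have := t₀.ne_zero
    simp
    field_simp
  rw [e] at h
  have e2 : star (t₀ : F) / (t₀ : F) * ((((nrm (t₀ : F))⁻¹ : Fx F) : F) * ((nrm (t₀ : F) : Fx F) : F)) =
      star (t₀ : F) / (t₀ : F) := by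
    rw [← MulMemClass.coe_mul, inv_mul_cancel₀ hN, OneMemClass.coe_one, mul_one]
  have e3 : (nrm (t₀ : F))⁻¹ * nrm ((nrm (t₀ : F) : Fx F) : F) / nrm (t₀ : F) =
      nrm (star (t₀ : F) / (t₀ : F)) := by
    apply Subtype.ext
    have := t₀.ne_zero
    have h' : star (t₀ : F) ≠ 0 := star_ne_zero.2 t₀.ne_zero
    simp [star_div₀, star_inv₀]
    field_simp
  rw [e2, e3] at h
  exact h

theorem yz_all (u : F) (c : Fx F) : Commute (rY φ u) (rZ φ ψ c) := by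
  obtain ⟨a, b, rfl⟩ := exists_combination S.hω u
  rw [Y_add]
  refine (S.yz_one a c).mul_left ?_
  rcases eq_or_ne b 0 with rfl | hb
  · simp [Y_zero]
  have h := (S.yz_ω c).map (MulAut.conj (rL ψ (Units.mk0 b hb)⁻¹))
  rw [S.L_Y, S.L_Z] at h
  simpa [Units.val_inv_eq_inv_val, div_inv_eq_mul, mul_comm] using h

theorem xz_all (u : F) (c : Fx F) : Commute (rX φ ψ u) (rZ φ ψ c) := by
  have h := (S.yz_all u c).map (MulAut.conj (ψ tw))
  rwa [show MulAut.conj (ψ tw) (rZ φ ψ c) = rZ φ ψ c by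
    rw [MulAut.conj_apply, (S.zψ_all tw c).eq, mul_inv_cancel_right]] at h

theorem uy_seed (u0 : F) (hu : u0 = 1 ∨ u0 = star (t₀ : F) / (t₀ : F)) (a c : Fx F) :
    MulAut.conj (ψ (un c)) (rY φ ((a : F) * u0)) =
      rY φ ((a : F) * u0) * rX φ ψ ((c : F) * ((a : F) * u0)) * rZ φ ψ (c * nrm ((a : F) * u0)) := by
  rcases hu with rfl | rfl
  · exact S.UY_line 1 S.ux1 (fun a d => S.xz_all _ d) S.uy1 a c
  · exact S.UY_line _ S.ux_ω (fun a d => S.xz_all _ d) S.uy_ω a c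

theorem uy_ω2 : MulAut.conj (ψ (un 1)) (rY φ ((star (t₀ : F) / (t₀ : F)) ^ 2)) =
    rY φ ((star (t₀ : F) / (t₀ : F)) ^ 2) * rX φ ψ ((star (t₀ : F) / (t₀ : F)) ^ 2) *
      rZ φ ψ (nrm ((star (t₀ : F) / (t₀ : F)) ^ 2)) := by
  set ω := star (t₀ : F) / (t₀ : F) with hω
  have hN : nrm (t₀ : F) ≠ 0 := (nrmU t₀).ne_zero
  have ht := t₀.ne_zero
  have h := congrArg (MulAut.conj (rD φ t₀)) (S.uy_seed ω (Or.inr rfl) (nrm (t₀ : F)) (nrm (t₀ : F))⁻¹)
  simp only [cj_cj, map_mul, S.D_un, D_Y, S.D_X, S.D_Z, mul_inv_cancel₀ hN] at h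
  have e1 : ((nrm (t₀ : F) : Fx F) : F) * ω / (t₀ : F) ^ 2 = ω ^ 2 := by
    rw [hω]; simp; field_simp
  have e2 : star (t₀ : F) / (t₀ : F) *
      ((((nrm (t₀ : F))⁻¹ : Fx F) : F) * (((nrm (t₀ : F) : Fx F) : F) * ω)) = ω ^ 2 := by
    rw [← mul_assoc ((((nrm (t₀ : F))⁻¹ : Fx F) : F)), ← MulMemClass.coe_mul, inv_mul_cancel₀ hN,
      OneMemClass.coe_one, one_mul, ← hω, sq]
  have e3 : (nrm (t₀ : F))⁻¹ * nrm (((nrm (t₀ : F) : Fx F) : F) * ω) / nrm (t₀ : F) = nrm (ω ^ 2) := by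
    apply Subtype.ext
    have h' : star (t₀ : F) ≠ 0 := star_ne_zero.2 t₀.ne_zero
    simp [hω, star_div₀, star_inv₀]
    field_simp
  rw [e1, e2, e3] at h
  exact h

theorem yx_same (u0 : F) (hu : u0 = 1 ∨ u0 = star (t₀ : F) / (t₀ : F)) :
    rY φ u0 * rX φ ψ u0 = rZ φ ψ (tr2 u0 u0) * rX φ ψ u0 * rY φ u0 := by
  have h2 : u0 + u0 = ((1 + 1 : Fx F) : F) * u0 := by push_cast; ring
  have h1 := S.uy_seed u0 hu 1 1
  have h3 := S.uy_seed u0 hu (1 + 1) 1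
  rw [← h2] at h3
  simp only [OneMemClass.coe_one, one_mul] at h1 h3
  have := S.toBase.YX_of_UY S.xz_all S.yz_all (c := 1) (u := u0) (v := u0)
    (by simpa using h1) (by simpa using h1) (by simpa using h3)
  simpa using this

theorem yx_cross : rY φ 1 * rX φ ψ (star (t₀ : F) / (t₀ : F)) =
      rZ φ ψ (tr2 1 (star (t₀ : F) / (t₀ : F))) * rX φ ψ (star (t₀ : F) / (t₀ : F)) * rY φ 1 ∧
    rY φ (star (t₀ : F) / (t₀ : F)) * rX φ ψ 1 =
      rZ φ ψ (tr2 (star (t₀ : F) / (t₀ : F)) 1) * rX φ ψ 1 * rY φ (star (t₀ : F) / (t₀ : F)) := by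
  set ω := star (t₀ : F) / (t₀ : F) with hω
  by_cases h2 : star (ω ^ 2) = ω ^ 2
  · have hA := S.yx1 h2
    refine ⟨hA, ?_⟩
    have h := congrArg (MulAut.conj (ψ tw)) hA
    have hX : ∀ u, MulAut.conj (ψ tw) (rX φ ψ u) = rY φ (-u) := fun u => by
      rw [rX, cj_mul, ← map_mul, tw_tw, ← rL, S.L_Y]
      congr 1
      simp
      ring
    rw [map_mul, map_mul, map_mul, hX, show MulAut.conj (ψ tw) (rY φ 1) = rX φ ψ 1 from rfl,
      show MulAut.conj (ψ tw) (rZ φ ψ (tr2 1 ω)) = rZ φ ψ (tr2 1 ω) by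
        rw [MulAut.conj_apply, (S.zψ_all tw _).eq, mul_inv_cancel_right]] at h
    have hneg : rY φ ω * rY φ (-ω) = 1 := by rw [← Y_add, add_neg_cancel, Y_zero]
    have hneg' : rY φ (-ω) * rY φ ω = 1 := by rw [← Y_add, neg_add_cancel, Y_zero]
    rw [show tr2 ω 1 = tr2 1 ω from Subtype.ext (by simp; ring)]
    calc rY φ ω * rX φ ψ 1 = rY φ ω * (rX φ ψ 1 * rY φ (-ω)) * rY φ ω := by
          rw [mul_assoc (rY φ ω), mul_assoc (rX φ ψ 1), hneg', mul_one]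
      _ = rY φ ω * (rZ φ ψ (tr2 1 ω) * rY φ (-ω) * rX φ ψ 1) * rY φ ω := by rw [h]
      _ = _ := by
          simp only [← mul_assoc]
          rw [(S.yz_all ω _).eq, mul_assoc (rZ φ ψ _) (rY φ ω), hneg, mul_one]
  obtain ⟨α, β, hab⟩ := exists_combination S.hω (ω ^ 2)
  have hβ : β ≠ 0 := fun e => h2 (by rw [hab, e]; simp)
  have hω0 : ω ≠ 0 := div_ne_zero (star_ne_zero.2 t₀.ne_zero) t₀.ne_zero
  have hα : α ≠ 0 := fun e => by
    rw [e, ZeroMemClass.coe_zero, zero_add, sq] at hab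
    have e2 : ω = (β : F) := mul_right_cancel₀ hω0 hab
    exact S.hω (by show star ω = ω; rw [e2]; exact star_fx β)
  have hα' : (α : F) ≠ 0 := fun e => hα (Subtype.ext e)
  have hβ' : (β : F) ≠ 0 := fun e => hβ (Subtype.ext e)
  set c : Fx F := (α * β)⁻¹ with hc
  have u1 := S.uy_seed 1 (Or.inl rfl) α c
  rw [mul_one] at u1
  have u2 := S.uy_seed ω (Or.inr rfl) β c
  have uω := S.UY_line (ω ^ 2) (S.UX_line _ S.ux_ω (0 + 0) 1 |> fun _ => by
      have h := (S.UX_line _ S.ux_ω 1 (nrm (t₀ : F))⁻¹).map (MulAut.conj (rD φ t₀))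
      rw [S.D_un, S.D_X, mul_inv_cancel₀ S.hN0, OneMemClass.coe_one, one_mul] at h
      rw [sq]; exact h) (fun a d => S.xz_all _ d) S.uy_ω2 1 c
  rw [OneMemClass.coe_one, one_mul, hab] at uω
  refine ⟨?_, ?_⟩
  · have h := congrArg (MulAut.conj (rL ψ (Units.mk0 α hα)))
      (S.toBase.YX_of_UY S.xz_all S.yz_all u2 u1 (by rw [add_comm]; exact uω))
    simp only [map_mul, S.L_Y, S.L_X, S.L_Z, Units.val_mk0] at h
    rw [show ((α : F)) * ((c : F) * ((β : F) * ω)) = ω by simp [hc]; field_simp, div_self hα',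
      show tr2 (α : F) ((c : F) * ((β : F) * ω)) = tr2 1 ω from Subtype.ext (by simp [hc]; field_simp)] at h
    exact h
  · have h := congrArg (MulAut.conj (rL ψ (Units.mk0 β hβ)))
      (S.toBase.YX_of_UY S.xz_all S.yz_all u1 u2 uω)
    simp only [map_mul, S.L_Y, S.L_X, S.L_Z, Units.val_mk0] at h
    rw [show (β : F) * ω / (β : F) = ω by field_simp, show (β : F) * ((c : F) * (α : F)) = 1 by simp [hc]; field_simp,
      show tr2 ((β : F) * ω) ((c : F) * (α : F)) = tr2 ω 1 from Subtype.ext (by simp [hc]; field_simp)] at h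
    exact h

/-- The seeds imply the relations. -/
def toRels : Rels φ ψ δ (star (t₀ : F) / (t₀ : F)) hδ hδ' where
  toBase := S.toBase
  yz := by
    rintro u -
    exact S.yz_all u 1
  yx := by
    rintro r (rfl | rfl) s (rfl | rfl)
    · exact S.yx_same _ (Or.inl rfl)
    · exact S.yx_cross.1
    · exact S.yx_cross.2
    · exact S.yx_same _ (Or.inr rfl)
  ux := by
    rintro u (rfl | rfl)
    · exact S.ux1
    · exact S.ux_ω
  uy := by
    rintro u (rfl | rfl)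
    · exact S.uy1
    · exact S.uy_ω
  wx := by
    rintro u (rfl | rfl)
    · exact S.wx1
    · exact S.wx_ω

end Seeds

end Cfsg.Agent.Small.SUPres.U4
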