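import Cfsg.Agent.Lib.Small.SUPres.Embed
import Cfsg.Agent.Lib.Lead.SL2PresModel

/-!
The four-dimensional special unitary group of a hyperbolic form, with its rank one subgroups and the stabiliser
of an isotropic point.
-/

set_option autoImplicit false
set_option linter.unusedSectionVars false
set_option linter.unusedSimpArgs false

namespace Cfsg.Agent.Small.SUPres.U4

open Matrix Cfsg.Agent.Lead.SL2Pres
open scoped MatrixGroups

variable {F : Type*} [Field F] [StarRing F]

variable (F) in
/-- The fixed field of the involution. -/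
def fixF : Subfield F where
  carrier := {x | star x = x}
  mul_mem' := fun {a b} (ha : star a = a) (hb : star b = b) => by
    show star (a * b) = a * b
    rw [star_mul', ha, hb]
  one_mem' := star_one F
  add_mem' := fun {a b} (ha : star a = a) (hb : star b = b) => by
    show star (a + b) = a + b
    rw [star_add, ha, hb]
  zero_mem' := star_zero F
  neg_mem' := fun {a} (ha : star a = a) => by
    show star (-a) = -a
    rw [star_neg, ha]
  inv_mem' := fun a (ha : star a = a) => by
    show star a⁻¹ = a⁻¹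
    rw [star_inv₀, ha]

variable (F) in
/-- The fixed field as a type. -/
abbrev Fx : Type _ := ↥(fixF F)

@[simp] theorem star_fx (x : Fx F) : star (x : F) = (x : F) := x.2

variable (F) in
/-- The hyperbolic form. -/
def J4 : Matrix (Fin 4) (Fin 4) F := !![0, 0, 1, 0; 0, 0, 0, 1; 1, 0, 0, 0; 0, 1, 0, 0]

theorem J4_star : (J4 F)ᴴ = J4 F := by
  ext i j
  fin_cases i <;> fin_cases j <;> simp [J4, Matrix.conjTranspose_apply]

theorem J4_sq : J4 F * J4 F = 1 := by
  ext i j
  fin_cases i <;> fin_cases j <;> simp [J4, Matrix.mul_apply, Fin.sum_univ_four]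

variable (F) in
/-- The group. -/
abbrev G4 : Type _ := ↥(formGrp (J4 F))

/-- A Levi matrix with its inverse conjugate transpose. -/
def levM (g : SL(2, F)) : Matrix (Fin 4) (Fin 4) F :=
  !![g.1 0 0, g.1 0 1, 0, 0; g.1 1 0, g.1 1 1, 0, 0; 0, 0, star (g.1 1 1), -star (g.1 1 0);
    0, 0, -star (g.1 0 1), star (g.1 0 0)]

/-- A rank one matrix on the first hyperbolic plane. -/
def psiM (δ : F) (s : SL(2, Fx F)) : Matrix (Fin 4) (Fin 4) F :=
  !![(s.1 0 0 : F), 0, δ * (s.1 0 1 : F), 0; 0, 1, 0, 0; (s.1 1 0 : F) / δ, 0, (s.1 1 1 : F), 0; 0, 0, 0, 1]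

theorem det_block (a b c d e f g h : F) :
    Matrix.det !![a, b, 0, 0; c, d, 0, 0; 0, 0, e, f; 0, 0, g, h] = (a * d - b * c) * (e * h - f * g) := by
  simp [Matrix.det_succ_row_zero, Fin.sum_univ_succ, Fin.succAbove]
  ring

theorem mul_block (a b c d e f g h a' b' c' d' e' f' g' h' : F) :
    !![a, b, 0, 0; c, d, 0, 0; 0, 0, e, f; 0, 0, g, h] *
      !![a', b', 0, 0; c', d', 0, 0; 0, 0, e', f'; 0, 0, g', h'] =
    !![a * a' + b * c', a * b' + b * d', 0, 0; c * a' + d * c', c * b' + d * d', 0, 0;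
      0, 0, e * e' + f * g', e * f' + f * h'; 0, 0, g * e' + h * g', g * f' + h * h'] := by
  ext i j
  fin_cases i <;> fin_cases j <;> simp [Matrix.mul_apply, Fin.sum_univ_four]

theorem mul_plane (a b c d a' b' c' d' : F) :
    !![a, 0, b, 0; 0, 1, 0, 0; c, 0, d, 0; 0, 0, 0, 1] * !![a', 0, b', 0; 0, 1, 0, 0; c', 0, d', 0; 0, 0, 0, 1] =
    !![a * a' + b * c', 0, a * b' + b * d', 0; 0, 1, 0, 0; c * a' + d * c', 0, c * b' + d * d', 0;
      0, 0, 0, 1] := by
  ext i j
  fin_cases i <;> fin_cases j <;> simp [Matrix.mul_apply, Fin.sum_univ_four]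

theorem det_levM (g : SL(2, F)) : (levM g).det = 1 := by
  have hd : g.1 0 0 * g.1 1 1 - g.1 0 1 * g.1 1 0 = 1 := by
    have := g.2; rwa [Matrix.det_fin_two] at this
  have hd' : star (g.1 0 0) * star (g.1 1 1) - star (g.1 0 1) * star (g.1 1 0) = 1 := by
    rw [← star_mul', ← star_mul', ← star_sub, hd, star_one]
  rw [levM, det_block, hd, one_mul]
  linear_combination hd'

theorem det_psiM {δ : F} (hδ : δ ≠ 0) (s : SL(2, Fx F)) : (psiM δ s).det = 1 := by
  have hd : (s.1 0 0 : F) * (s.1 1 1 : F) - (s.1 0 1 : F) * (s.1 1 0 : F) = 1 := by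
    have := s.2; rw [Matrix.det_fin_two] at this
    exact_mod_cast congrArg (Subtype.val : Fx F → F) this
  simp [psiM, Matrix.det_succ_row_zero, Fin.sum_univ_succ, Fin.succAbove]
  field_simp
  linear_combination hd

set_option maxHeartbeats 1000000 in
theorem levM_form (g : SL(2, F)) : (levM g)ᴴ * J4 F * levM g = J4 F := by
  have hd : g.1 0 0 * g.1 1 1 - g.1 0 1 * g.1 1 0 = 1 := by
    have := g.2; rwa [Matrix.det_fin_two] at this
  have hd' : star (g.1 0 0) * star (g.1 1 1) - star (g.1 0 1) * star (g.1 1 0) = 1 := by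
    rw [← star_mul', ← star_mul', ← star_sub, hd, star_one]
  ext i j
  fin_cases i <;> fin_cases j <;>
    simp [levM, J4, Matrix.mul_apply, Fin.sum_univ_four, Matrix.conjTranspose_apply] <;>
    (first | ring1 | linear_combination hd | linear_combination hd')

theorem psiM_form {δ : F} (hδ : δ ≠ 0) (hδ' : star δ = -δ) (s : SL(2, Fx F)) :
    (psiM δ s)ᴴ * J4 F * psiM δ s = J4 F := by
  have hd : (s.1 0 0 : F) * (s.1 1 1 : F) - (s.1 0 1 : F) * (s.1 1 0 : F) = 1 := by
    have := s.2; rw [Matrix.det_fin_two] at this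
    exact_mod_cast congrArg (Subtype.val : Fx F → F) this
  ext i j
  fin_cases i <;> fin_cases j <;>
    simp [psiM, J4, Matrix.mul_apply, Fin.sum_univ_four, Matrix.conjTranspose_apply, hδ'] <;>
    (try field_simp) <;> (first | ring1 | linear_combination hd)

set_option maxHeartbeats 1000000 in
/-- The Levi subgroup. -/
def lev : SL(2, F) →* G4 F where
  toFun g := ⟨⟨levM g, det_levM g⟩, levM_form g⟩
  map_one' := by
    apply Subtype.ext; apply Subtype.ext
    ext i j
    fin_cases i <;> fin_cases j <;> simp [levM]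
  map_mul' g h := by
    apply Subtype.ext; apply Subtype.ext
    show levM (g * h) = levM g * levM h
    rw [levM, levM, levM, mul_block]
    simp only [Matrix.SpecialLinearGroup.coe_mul, Matrix.mul_apply, Fin.sum_univ_two, star_add, star_mul']
    ext i j
    fin_cases i <;> fin_cases j <;> simp <;> ring

/-- The long root rank one subgroup. -/
def psi {δ : F} (hδ : δ ≠ 0) (hδ' : star δ = -δ) : SL(2, Fx F) →* G4 F where
  toFun s := ⟨⟨psiM δ s, det_psiM hδ s⟩, psiM_form hδ hδ' s⟩
  map_one' := by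
    apply Subtype.ext; apply Subtype.ext
    ext i j
    fin_cases i <;> fin_cases j <;> simp [psiM]
  map_mul' g h := by
    apply Subtype.ext; apply Subtype.ext
    show psiM δ (g * h) = psiM δ g * psiM δ h
    rw [psiM, psiM, psiM, mul_plane]
    simp only [Matrix.SpecialLinearGroup.coe_mul, Matrix.mul_apply, Fin.sum_univ_two]
    push_cast
    ext i j
    fin_cases i <;> fin_cases j <;> simp <;> field_simp

theorem lev_val (g : SL(2, F)) : (lev g).1.1 = levM g := rfl

theorem psi_val {δ : F} (hδ : δ ≠ 0) (hδ' : star δ = -δ) (s : SL(2, Fx F)) : (psi hδ hδ' s).1.1 = psiM δ s := rfl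

end Cfsg.Agent.Small.SUPres.U4
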