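import Cfsg.Agent.Lib.Small.SUPres.U4.Rels

/-!
Isotropic points of the four-dimensional hyperbolic unitary space and the stabiliser of a point.
-/

set_option autoImplicit false
set_option linter.unusedSectionVars false
set_option linter.unusedSimpArgs false

namespace Cfsg.Agent.Small.SUPres.U4

open Matrix Cfsg.Agent.Lead.SL2Pres
open scoped MatrixGroups

variable {F : Type*} [Field F] [StarRing F]

/-- The hermitian form. -/
def hf (u v : Fin 4 → F) : F := star (u 0) * v 2 + star (u 1) * v 3 + star (u 2) * v 0 + star (u 3) * v 1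

theorem hf_smul_left (c : F) (u v : Fin 4 → F) : hf (c • u) v = star c * hf u v := by
  simp [hf, star_mul']; ring

theorem hf_smul_right (c : F) (u v : Fin 4 → F) : hf u (c • v) = c * hf u v := by
  simp [hf]; ring

theorem hf_star (u v : Fin 4 → F) : star (hf u v) = hf v u := by
  simp [hf, star_add, star_mul', star_star]; ring

theorem hf_eq (u v : Fin 4 → F) : hf u v = star u ⬝ᵥ (J4 F *ᵥ v) := by
  simp [hf, J4, dotProduct, Matrix.mulVec, Fin.sum_univ_four]

theorem hf_act (g : G4 F) (u v : Fin 4 → F) : hf (g.1.1 *ᵥ u) (g.1.1 *ᵥ v) = hf u v := by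
  rw [hf_eq, hf_eq, Matrix.star_mulVec, Matrix.mulVec_mulVec, ← Matrix.dotProduct_mulVec,
    Matrix.mulVec_mulVec, ← Matrix.mul_assoc, show g.1.1ᴴ * J4 F * g.1.1 = J4 F from g.2]

theorem act_inj (g : G4 F) {u : Fin 4 → F} (h : g.1.1 *ᵥ u = 0) : u = 0 := by
  have := congrArg ((g⁻¹).1.1 *ᵥ ·) h
  simp only [Matrix.mulVec_mulVec, Matrix.mulVec_zero] at this
  rw [show (g⁻¹).1.1 * g.1.1 = 1 from congrArg (fun x : G4 F => x.1.1) (inv_mul_cancel g), Matrix.one_mulVec] at this
  exact this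

variable (F) in
/-- The isotropic points. -/
def Pt : Type _ := {S : Submodule F (Fin 4 → F) // ∃ v, v ≠ 0 ∧ hf v v = 0 ∧ S = Submodule.span F {v}}

/-- The point of an isotropic vector. -/
def pt (v : Fin 4 → F) (h : v ≠ 0) (h' : hf v v = 0) : Pt F := ⟨Submodule.span F {v}, v, h, h', rfl⟩

theorem exists_pt (S : Pt F) : ∃ v h h', S = pt v h h' := by
  obtain ⟨S, v, h, h', e⟩ := S
  exact ⟨v, h, h', Subtype.ext e⟩

theorem pt_eq {v w : Fin 4 → F} {h h'} {k k'} : pt v h h' = pt w k k' ↔ ∃ c : F, w = c • v := by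
  constructor
  · intro e
    have hw : w ∈ Submodule.span F {v} := by
      rw [show Submodule.span F {v} = Submodule.span F {w} from congrArg Subtype.val e]
      exact Submodule.mem_span_singleton_self w
    obtain ⟨c, hc⟩ := Submodule.mem_span_singleton.1 hw
    exact ⟨c, hc.symm⟩
  · rintro ⟨c, rfl⟩
    have hc : c ≠ 0 := fun e => k (by rw [e, zero_smul])
    exact Subtype.ext (Submodule.span_singleton_smul_eq (IsUnit.mk0 c hc) v).symm

theorem mulVecLin_map (g : G4 F) (v : Fin 4 → F) :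
    (Submodule.span F {v}).map g.1.1.mulVecLin = Submodule.span F {g.1.1 *ᵥ v} := by
  rw [Submodule.map_span, Set.image_singleton, Matrix.mulVecLin_apply]

instance : MulAction (G4 F) (Pt F) where
  smul g S := ⟨S.1.map g.1.1.mulVecLin, by
    obtain ⟨v, h, h', e⟩ := S.2
    exact ⟨g.1.1 *ᵥ v, fun e' => h (act_inj g e'), by rw [hf_act, h'], by rw [e, mulVecLin_map]⟩⟩
  one_smul S := Subtype.ext <| by
    show S.1.map (1 : Matrix (Fin 4) (Fin 4) F).mulVecLin = S.1
    rw [Matrix.mulVecLin_one, Submodule.map_id]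
  mul_smul g g' S := Subtype.ext <| by
    show S.1.map (g.1.1 * g'.1.1).mulVecLin = (S.1.map g'.1.1.mulVecLin).map g.1.1.mulVecLin
    rw [Matrix.mulVecLin_mul, Submodule.map_comp]

theorem smul_pt (g : G4 F) (v : Fin 4 → F) (h h') :
    g • pt v h h' = pt (g.1.1 *ᵥ v) (fun e => h (act_inj g e)) (by rw [hf_act, h']) :=
  Subtype.ext (mulVecLin_map g v)

/-- Collinearity. -/
def Col (S T : Pt F) : Prop := S ≠ T ∧ ∀ x ∈ S.1, ∀ y ∈ T.1, hf x y = 0

theorem col_pt {v w : Fin 4 → F} {h h'} {k k'} : Col (pt v h h') (pt w k k') ↔ pt v h h' ≠ pt w k k' ∧ hf v w = 0 := by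
  refine and_congr Iff.rfl ⟨fun e => e v (Submodule.mem_span_singleton_self v) w (Submodule.mem_span_singleton_self w),
    fun e x hx y hy => ?_⟩
  obtain ⟨a, rfl⟩ := Submodule.mem_span_singleton.1 hx
  obtain ⟨b, rfl⟩ := Submodule.mem_span_singleton.1 hy
  rw [hf_smul_left, hf_smul_right, e, mul_zero, mul_zero]

theorem col_symm {S T : Pt F} (h : Col S T) : Col T S :=
  ⟨h.1.symm, fun x hx y hy => by rw [← hf_star, h.2 y hy x hx, star_zero]⟩

theorem col_smul (g : G4 F) {S T : Pt F} (h : Col S T) : Col (g • S) (g • T) := by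
  obtain ⟨v, hv, hv', rfl⟩ := exists_pt S
  obtain ⟨w, hw, hw', rfl⟩ := exists_pt T
  rw [col_pt] at h
  refine ⟨fun e => h.1 (MulAction.injective g e), ?_⟩
  rw [smul_pt, smul_pt]
  intro x hx y hy
  obtain ⟨a, rfl⟩ := Submodule.mem_span_singleton.1 hx
  obtain ⟨b, rfl⟩ := Submodule.mem_span_singleton.1 hy
  rw [hf_smul_left, hf_smul_right, hf_act, h.2, mul_zero, mul_zero]

theorem fx_coe_ne {x : Fx F} (h : x ≠ 0) : (x : F) ≠ 0 := fun e => h (Subtype.ext e)

/-! ### Root elements acting -/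

theorem tw_inv_val {K : Type*} [Field K] : ((tw : SL(2, K))⁻¹).1 = !![0, -1; 1, 0] := by
  rw [Matrix.SpecialLinearGroup.coe_inv, Matrix.adjugate_fin_two]
  simp [tw]

theorem vec_ext {v : Fin 4 → F} : v = ![v 0, v 1, v 2, v 3] := by
  funext i; fin_cases i <;> rfl

theorem act_mul (g h : G4 F) (v : Fin 4 → F) : (g * h).1.1 *ᵥ v = g.1.1 *ᵥ (h.1.1 *ᵥ v) := by
  rw [Matrix.mulVec_mulVec]; rfl

theorem lev_act (g : SL(2, F)) (a b c d : F) : (lev g).1.1 *ᵥ ![a, b, c, d] =
    ![g.1 0 0 * a + g.1 0 1 * b, g.1 1 0 * a + g.1 1 1 * b, star (g.1 1 1) * c - star (g.1 1 0) * d,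
      star (g.1 0 0) * d - star (g.1 0 1) * c] := by
  rw [lev_val]
  funext i
  fin_cases i <;> simp [levM, Matrix.mulVec, dotProduct, Fin.sum_univ_four] <;> ring

variable {δ : F} (hδ : δ ≠ 0) (hδ' : star δ = -δ)

theorem psi_act (s : SL(2, Fx F)) (a b c d : F) : (psi hδ hδ' s).1.1 *ᵥ ![a, b, c, d] =
    ![(s.1 0 0 : F) * a + δ * (s.1 0 1 : F) * c, b, (s.1 1 0 : F) / δ * a + (s.1 1 1 : F) * c, d] := by
  rw [psi_val]
  funext i
  fin_cases i <;> simp [psiM, Matrix.mulVec, dotProduct, Fin.sum_univ_four]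

theorem Y_act (u a b c d : F) :
    (rY lev u).1.1 *ᵥ ![a, b, c, d] = ![a, u * a + b, c - star u * d, d] := by
  rw [rY, lev_act]
  simp [ln]

theorem D_act (t : Fˣ) (a b c d : F) : (rD lev t).1.1 *ᵥ ![a, b, c, d] =
    ![(t : F) * a, b / (t : F), c / star (t : F), star (t : F) * d] := by
  rw [rD, lev_act]
  simp [dg, Units.val_inv_eq_inv_val, div_eq_inv_mul, star_inv₀]

theorem X_act (u a b c d : F) : (rX lev (psi hδ hδ') u).1.1 *ᵥ ![a, b, c, d] =
    ![a - δ * star u * d, b - δ * u * c, c, d] := by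
  rw [rX, MulAut.conj_apply, ← map_inv, act_mul, act_mul, psi_act, Y_act, psi_act, tw_inv_val]
  simp [tw]
  refine ⟨?_, ?_, ?_⟩ <;> field_simp <;> ring

theorem Z_act (k : Fx F) (a b c d : F) : (rZ lev (psi hδ hδ') k).1.1 *ᵥ ![a, b, c, d] =
    ![a, b + δ * (k : F) * d, c, d] := by
  rw [rZ, MulAut.conj_apply, ← map_inv, act_mul, act_mul, lev_act, psi_act, lev_act, tw_inv_val]
  simp [tw, un]
  ring

theorem U_act (u β : F) (k : Fx F) (a b c d : F) :
    (rY lev u * rX lev (psi hδ hδ') β * rZ lev (psi hδ hδ') k).1.1 *ᵥ ![a, b, c, d] =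
      ![a - δ * star β * d, u * (a - δ * star β * d) + (b + δ * (k : F) * d - δ * β * c), c - star u * d, d] := by
  rw [act_mul, act_mul, Z_act, X_act, Y_act]

/-! ### Basic points -/

/-- The base vector. -/
def b1 : Fin 4 → F := ![0, 1, 0, 0]
/-- A vector collinear to the base vector. -/
def b0 : Fin 4 → F := ![1, 0, 0, 0]
/-- A vector opposite to the base vector. -/
def b3 : Fin 4 → F := ![0, 0, 0, 1]
/-- The vector opposite to the collinear one. -/
def b2 : Fin 4 → F := ![0, 0, 1, 0]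

variable (F) in
/-- The base point. -/
def P1 : Pt F := pt b1 (fun h => by simpa [b1] using congrFun h 1) (by simp [hf, b1])
variable (F) in
/-- A point collinear to the base point. -/
def P0 : Pt F := pt b0 (fun h => by simpa [b0] using congrFun h 0) (by simp [hf, b0])
variable (F) in
/-- A point opposite to the base point. -/
def P3 : Pt F := pt b3 (fun h => by simpa [b3] using congrFun h 3) (by simp [hf, b3])
variable (F) in
/-- The fourth point. -/
def P2 : Pt F := pt b2 (fun h => by simpa [b2] using congrFun h 2) (by simp [hf, b2])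

theorem smul_eq_pt {g : G4 F} {v w : Fin 4 → F} {h h'} {k k'} (c : F) (e : g.1.1 *ᵥ v = c • w) :
    g • pt v h h' = pt w k k' := by
  rw [smul_pt]
  refine (pt_eq.2 ⟨c, e⟩).symm

include hδ hδ' in
/-- The orbits of the stabiliser of the base point. -/
theorem orbits (S : Pt F) : S = P1 F ∨ ∃ g : G4 F, g • P1 F = P1 F ∧ (g • P0 F = S ∨ g • P3 F = S) := by
  obtain ⟨v, hv, hv', rfl⟩ := exists_pt S
  obtain ⟨a, b, c, d, rfl⟩ : ∃ a b c d : F, v = ![a, b, c, d] := ⟨_, _, _, _, vec_ext⟩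
  have hiso : star a * c + star b * d + star c * a + star d * b = 0 := by simpa [hf] using hv'
  by_cases hd : d = 0
  · subst hd
    have hac : star a * c + star c * a = 0 := by simpa using hiso
    by_cases ha : a = 0
    · subst ha
      by_cases hc : c = 0
      · subst hc
        exact Or.inl (pt_eq.2 ⟨b, by simp [b1]⟩).symm
      · refine Or.inr ⟨rX lev (psi hδ hδ') (-b / (c * δ)) * psi hδ hδ' tw, ?_, Or.inl ?_⟩
        · refine smul_eq_pt 1 ?_
          rw [act_mul, b1, psi_act, X_act]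
          simp [tw]
        · refine smul_eq_pt (-(c * δ))⁻¹ ?_
          rw [act_mul, b0, psi_act, X_act]
          simp [tw]
          refine ⟨?_, ?_⟩ <;> field_simp
    · have hr : star (c / a * δ) = c / a * δ := by
        have ha' : star a ≠ 0 := star_ne_zero.2 ha
        rw [star_mul', star_div₀, hδ']
        field_simp
        linear_combination (-1) * hac
      refine Or.inr ⟨rY lev (b / a) * psi hδ hδ' (ln ⟨c / a * δ, hr⟩), ?_, Or.inl ?_⟩
      · refine smul_eq_pt 1 ?_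
        rw [act_mul, b1, psi_act, Y_act]
        simp [ln]
      · refine smul_eq_pt a⁻¹ ?_
        rw [act_mul, b0, psi_act, Y_act]
        simp [ln]
        refine ⟨?_, ?_, ?_⟩ <;> field_simp
  · have hd' : star d ≠ 0 := star_ne_zero.2 hd
    have hr : star ((b / d + a / d * star (c / d)) / δ) = (b / d + a / d * star (c / d)) / δ := by
      rw [star_div₀, hδ', star_add, star_mul', star_star, star_div₀, star_div₀, star_div₀, div_eq_div_iff
        (neg_ne_zero.2 hδ) hδ]
      field_simp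
      linear_combination hiso
    refine Or.inr ⟨rY lev (-star (c / d)) * rX lev (psi hδ hδ') (star (a / d) / δ) *
      rZ lev (psi hδ hδ') ⟨_, hr⟩, ?_, Or.inr ?_⟩
    · refine smul_eq_pt 1 ?_
      rw [b1, U_act]
      simp
    · refine smul_eq_pt d⁻¹ ?_
      rw [b3, U_act]
      simp [star_div₀, hδ']
      refine ⟨?_, ?_, ?_, ?_⟩ <;> field_simp
      ring

include hδ hδ' in
/-- The isometries act transitively on points. -/
theorem exists_smul (S : Pt F) : ∃ g : G4 F, g • S = P1 F := by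
  obtain ⟨v, hv, hv', rfl⟩ := exists_pt S
  obtain ⟨a, b, c, d, rfl⟩ : ∃ a b c d : F, v = ![a, b, c, d] := ⟨_, _, _, _, vec_ext⟩
  have key : ∀ a b c d : F, ¬ (a = 0 ∧ b = 0) → ∀ h h', ∃ g : G4 F, g • pt ![a, b, c, d] h h' = P1 F := by
    intro a b c d hab h h'
    obtain ⟨g, hg0, hg1⟩ : ∃ g : SL(2, F), g.1 0 0 * a + g.1 0 1 * b = 0 ∧ g.1 1 0 * a + g.1 1 1 * b = 1 := by
      by_cases ha : a = 0
      · have hb : b ≠ 0 := fun hb => hab ⟨ha, hb⟩
        refine ⟨dg (Units.mk0 b hb), ?_, ?_⟩ <;> simp [dg, ha, hb]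
      · refine ⟨⟨!![b, -a; a⁻¹, 0], by simp [Matrix.det_fin_two, ha]⟩, ?_, ?_⟩ <;> simp [ha] <;> ring
    have h1 := hf_act (lev g) ![a, b, c, d] ![a, b, c, d]
    rw [h', lev_act, hg0, hg1] at h1
    set c' := star (g.1 1 1) * c - star (g.1 1 0) * d with hc2
    set d' := star (g.1 0 0) * d - star (g.1 0 1) * c with hd2
    have h2 : d' + star d' = 0 := by simpa [hf, add_comm] using h1
    have hr : star (-(d' * δ)) = -(d' * δ) := by
      rw [star_neg, star_mul', hδ']
      linear_combination δ * h2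
    refine ⟨MulAut.conj (psi hδ hδ' tw) (lev (un (δ * c'))) *
      MulAut.conj (lev tw) (psi hδ hδ' (ln ⟨-(d' * δ), hr⟩)) * lev g, smul_eq_pt 1 ?_⟩
    rw [act_mul, act_mul, lev_act, hg0, hg1, MulAut.conj_apply, MulAut.conj_apply, ← map_inv, ← map_inv,
      act_mul, act_mul, act_mul, act_mul, lev_act, psi_act, lev_act, psi_act, lev_act, psi_act, tw_inv_val,
      tw_inv_val]
    simp [tw, un, ln, b1]
    refine ⟨?_, ?_⟩ <;> simp [hc2, hd2] <;> field_simp <;> ring
  by_cases hab : a = 0 ∧ b = 0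
  · obtain ⟨rfl, rfl⟩ := hab
    set s := psi hδ hδ' tw * MulAut.conj (lev tw) (psi hδ hδ' tw) with hs
    have e : s.1.1 *ᵥ ![0, 0, c, d] = ![δ * c, δ * d, 0, 0] := by
      rw [hs, act_mul, MulAut.conj_apply, ← map_inv, act_mul, act_mul, lev_act, psi_act, lev_act, psi_act,
        tw_inv_val]
      simp [tw]
    have hcd : ¬ (δ * c = 0 ∧ δ * d = 0) := fun h => hv (by simp_all)
    obtain ⟨g, hg⟩ := key _ _ 0 0 hcd (by simpa using hcd) (by simp [hf])
    refine ⟨g * s, ?_⟩
    rw [mul_smul, ← hg, smul_pt]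
    congr 1
    exact Subtype.ext (by simp only [pt]; rw [e])
  · exact key a b c d hab hv hv'

/-! ### The stabiliser -/

theorem det_shape (a b c d p r s w x : F) :
    Matrix.det !![a, 0, b, p; r, 1, s, w; c, 0, d, x; 0, 0, 0, 1] = a * d - b * c := by
  simp [Matrix.det_succ_row_zero, Fin.sum_univ_succ, Fin.succAbove]
  ring

theorem ext_act {g h : G4 F} (e : ∀ a b c d : F, g.1.1 *ᵥ ![a, b, c, d] = h.1.1 *ᵥ ![a, b, c, d]) : g = h := by
  refine Subtype.ext (Subtype.ext (Matrix.ext_of_mulVec_single fun i => ?_))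
  rw [show (Pi.single i 1 : Fin 4 → F) = _ from vec_ext]
  exact e _ _ _ _

set_option maxHeartbeats 1600000 in
theorem decomp {g : G4 F} {k : F} (h : g.1.1 *ᵥ b1 = k • b1) :
    ∃ (u β : F) (c : Fx F) (s : SL(2, Fx F)) (t : Fˣ), g = rY lev u * rX lev (psi hδ hδ') β *
      rZ lev (psi hδ hδ') c * psi hδ hδ' s * rD lev t := by
  have hk : k ≠ 0 := by
    intro e
    have := act_inj g (u := b1) (by rw [h, e, zero_smul])
    simpa [b1] using congrFun this 1
  set t : Fˣ := Units.mk0 k hk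
  have hstart : (g * rD lev t).1.1 *ᵥ ![0, 1, 0, 0] = ![0, 1, 0, 0] := by
    rw [act_mul, D_act]
    simp only [mul_zero, zero_div, one_div]
    rw [show (![0, (t : F)⁻¹, 0, 0] : Fin 4 → F) = (t : F)⁻¹ • b1 by simp [b1], Matrix.mulVec_smul, h,
      smul_smul, show (t : F)⁻¹ * k = 1 from inv_mul_cancel₀ t.ne_zero, one_smul, b1]
  set g₁ := g * rD lev t with hg₁
  set M := g₁.1.1 with hM
  have hcol : ∀ i, M i 1 = (![0, 1, 0, 0] : Fin 4 → F) i := fun i => by
    have := congrFun hstart i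
    simpa [Matrix.mulVec, dotProduct, Fin.sum_univ_four] using this
  have hinv : ∀ u v : Fin 4 → F, hf (M *ᵥ u) (M *ᵥ v) = hf u v := hf_act g₁
  have hrow : ∀ j, M 3 j = hf b1 (Pi.single j 1) := fun j => by
    have := hinv b1 (Pi.single j 1)
    rw [Matrix.mulVec_single_one, show M *ᵥ b1 = b1 from hstart] at this
    rw [← this]
    simp [hf, b1]
  have h30 : M 3 0 = 0 := by rw [hrow]; simp [hf, b1]
  have h32 : M 3 2 = 0 := by rw [hrow]; simp [hf, b1]
  have h33 : M 3 3 = 1 := by rw [hrow]; simp [hf, b1]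
  have hsh : M = !![M 0 0, 0, M 0 2, M 0 3; M 1 0, 1, M 1 2, M 1 3; M 2 0, 0, M 2 2, M 2 3; 0, 0, 0, 1] := by
    ext i j
    fin_cases i <;> fin_cases j <;> first
      | rfl | (simp [h30, h32, h33]; done) | exact hcol 0 | exact hcol 1 | exact hcol 2 | exact hcol 3
  have hd : M 0 0 * M 2 2 - M 0 2 * M 2 0 = 1 := by
    rw [← det_shape (M 0 0) (M 0 2) (M 2 0) (M 2 2) (M 0 3) (M 1 0) (M 1 2) (M 1 3) (M 2 3), ← hsh]
    exact g₁.1.2
  have hA := hinv (Pi.single 0 1) (Pi.single 0 1)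
  have hB := hinv (Pi.single 2 1) (Pi.single 2 1)
  have hC := hinv (Pi.single 0 1) (Pi.single 2 1)
  simp [hf, Matrix.mulVec_single_one, h30, h32] at hA hB hC
  have hC' := congrArg star hC
  simp [star_add, star_mul'] at hC'
  have r00 : star (M 0 0) = M 0 0 := by
    linear_combination (-(star (M 0 0))) * hd + M 0 0 * hC - M 0 2 * hA
  have r22 : star (M 2 2) = M 2 2 := by
    linear_combination (-(star (M 2 2))) * hd + M 2 2 * hC' - M 2 0 * hB
  have r02 : star (M 0 2) = -M 0 2 := by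
    linear_combination (-(star (M 0 2))) * hd + M 0 0 * hB - M 0 2 * hC'
  have r20 : star (M 2 0) = -M 2 0 := by
    linear_combination (-(star (M 2 0))) * hd + M 2 2 * hA - M 2 0 * hC
  set s : SL(2, Fx F) := ⟨!![⟨M 0 0, r00⟩, ⟨M 0 2 / δ, by
        show star (M 0 2 / δ) = _; rw [star_div₀, r02, hδ', neg_div_neg_eq]⟩;
      ⟨M 2 0 * δ, by show star (M 2 0 * δ) = _; rw [star_mul', r20, hδ', neg_mul_neg]⟩, ⟨M 2 2, r22⟩], by
    rw [Matrix.det_fin_two]
    apply Subtype.ext
    simp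
    field_simp
    linear_combination hd⟩ with hs
  set h₂ := g₁ * psi hδ hδ' s⁻¹ with hh₂
  set r := M 1 0 * M 2 2 - M 1 2 * M 2 0 with hr
  set q := M 1 2 * M 0 0 - M 1 0 * M 0 2 with hq
  have hsinv : ∀ a b c d : F, (psi hδ hδ' s⁻¹).1.1 *ᵥ ![a, b, c, d] =
      ![M 2 2 * a - M 0 2 * c, b, -M 2 0 * a + M 0 0 * c, d] := fun a b c d => by
    rw [psi_act, Matrix.SpecialLinearGroup.coe_inv, Matrix.adjugate_fin_two]
    simp [hs]
    refine ⟨?_, ?_⟩ <;> field_simp
    ring
  have h2act : ∀ a b c d : F, h₂.1.1 *ᵥ ![a, b, c, d] =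
      ![a + M 0 3 * d, r * a + b + q * c + M 1 3 * d, c + M 2 3 * d, d] := fun a b c d => by
    rw [hh₂, act_mul, hsinv, ← hM, hsh]
    funext i
    fin_cases i <;> simp [Matrix.mulVec, dotProduct, Fin.sum_univ_four, hr, hq]
    · linear_combination a * hd
    · ring
    · linear_combination c * hd
  have e03 := hf_act h₂ ![1, 0, 0, 0] ![0, 0, 0, 1]
  have e23 := hf_act h₂ ![0, 0, 1, 0] ![0, 0, 0, 1]
  have e33 := hf_act h₂ ![0, 0, 0, 1] ![0, 0, 0, 1]
  simp only [h2act] at e03 e23 e33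
  simp [hf] at e03 e23 e33
  have hx : M 2 3 = -star r := by linear_combination e03
  have hp : M 0 3 = -star q := by linear_combination e23
  rw [hx, hp] at e33
  simp [star_neg, star_star] at e33
  have hw : star ((M 1 3 + star q * r) / δ) = (M 1 3 + star q * r) / δ := by
    rw [star_div₀, hδ', star_add, star_mul', star_star, div_eq_div_iff (neg_ne_zero.2 hδ) hδ]
    linear_combination δ * e33
  have hfin : h₂ = rY lev r * rX lev (psi hδ hδ') (-q / δ) * rZ lev (psi hδ hδ') ⟨_, hw⟩ :=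
    ext_act fun a b c d => by
      rw [h2act, U_act, hx, hp]
      simp [star_div₀, hδ']
      refine ⟨?_, ?_, ?_⟩ <;> field_simp <;> ring
  refine ⟨r, -q / δ, ⟨_, hw⟩, s, t⁻¹, ?_⟩
  rw [← hfin, hh₂, hg₁, show rD lev t⁻¹ = (rD lev t)⁻¹ by rw [rD, rD, ← map_inv]; congr 1; exact
    (eq_inv_of_mul_eq_one_left (by rw [← dg_mul, inv_mul_cancel, dg_one]))]
  rw [map_inv]
  group

theorem form_act {u β : F} {c : Fx F} {s : SL(2, Fx F)} {t : Fˣ} (a b x d : F) :
    (rY lev u * rX lev (psi hδ hδ') β * rZ lev (psi hδ hδ') c * psi hδ hδ' s * rD lev t).1.1 *ᵥ ![a, b, x, d] =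
      ![((s.1 0 0 : F) * ((t : F) * a) + δ * (s.1 0 1 : F) * (x / star (t : F))) - δ * star β * (star (t : F) * d),
        u * (((s.1 0 0 : F) * ((t : F) * a) + δ * (s.1 0 1 : F) * (x / star (t : F))) -
          δ * star β * (star (t : F) * d)) + (b / (t : F) + δ * (c : F) * (star (t : F) * d) -
          δ * β * ((s.1 1 0 : F) / δ * ((t : F) * a) + (s.1 1 1 : F) * (x / star (t : F)))),
        ((s.1 1 0 : F) / δ * ((t : F) * a) + (s.1 1 1 : F) * (x / star (t : F))) - star u * (star (t : F) * d),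
        star (t : F) * d] := by
  rw [act_mul, act_mul, D_act, psi_act, U_act]

theorem decomp_unique {u β : F} {c : Fx F} {s : SL(2, Fx F)} {t : Fˣ}
    (h : rY lev u * rX lev (psi hδ hδ') β * rZ lev (psi hδ hδ') c * psi hδ hδ' s * rD lev t = 1) :
    u = 0 ∧ β = 0 ∧ c = 0 ∧ s = 1 ∧ t = 1 := by
  have e := fun a b x d => (form_act hδ hδ' (u := u) (β := β) (c := c) (s := s) (t := t) a b x d).symm
  simp only [h] at e
  simp only [OneMemClass.coe_one, Matrix.SpecialLinearGroup.coe_one, Matrix.one_mulVec] at e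
  have eb := e 0 1 0 0
  simp at eb
  have ht : t = 1 := Units.ext (by simpa using eb)
  subst ht
  have ea := e 1 0 0 0
  simp at ea
  obtain ⟨s00, hu, s10⟩ := ea
  have s10' : (s.1 1 0 : F) = 0 := by simpa [hδ] using s10
  rw [s00, s10'] at hu
  have ec := e 0 0 1 0
  simp at ec
  obtain ⟨s01, hβ, s11⟩ := ec
  have s01' : (s.1 0 1 : F) = 0 := by simpa [hδ] using s01
  simp at hu
  subst hu
  rw [s01', s11] at hβ
  simp [hδ] at hβ
  subst hβ
  have ed := e 0 0 0 1
  simp [hδ] at ed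
  refine ⟨rfl, rfl, Subtype.ext (by simpa using ed), ?_, rfl⟩
  apply Matrix.SpecialLinearGroup.ext
  intro i j
  apply Subtype.ext
  fin_cases i <;> fin_cases j <;> simp [s00, s10', s01', s11]

end Cfsg.Agent.Small.SUPres.U4
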