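import Cfsg.Agent.Lib.Small.SUPres.U4.Main
import Cfsg.Agent.Lib.Small.SUPres.U4.Min
import Cfsg.Agent.Lib.Small.SUPres.PresOn

/-!
A presentation of the four-dimensional special unitary group of a hyperbolic form from presentations of its
two rank one subgroups.
-/

set_option autoImplicit false
set_option linter.unusedSectionVars false
set_option linter.unusedSimpArgs false

namespace Cfsg.Agent.Small.SUPres.U4

open Matrix Cfsg.Agent.Lead.SL2Pres
open scoped MatrixGroups

universe u

variable {F : Type u} [Field F] [StarRing F] {δ : F} (hδ : δ ≠ 0) (hδ' : star δ = -δ)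

theorem scale_mul {K : Type*} [Field K] (a b : Kˣ) (g : SL(2, K)) : scale (a * b) g = scale a (scale b g) := by
  apply Subtype.ext
  rw [scale_val, scale_val, scale_val]
  ext i j
  fin_cases i <;> fin_cases j <;> simp [scaleM, mul_assoc, div_div, mul_comm (a : K)]

theorem scale_one {K : Type*} [Field K] (g : SL(2, K)) : scale 1 g = g := by
  apply Subtype.ext
  rw [scale_val]
  ext i j
  fin_cases i <;> fin_cases j <;> simp [scaleM]

theorem scale_dg_conj {K : Type*} [Field K] (l : Kˣ) (s : SL(2, K)) :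
    scale (l ^ 2)⁻¹ (dg l * s * (dg l)⁻¹) = s := by
  apply Subtype.ext
  rw [scale_val, Matrix.SpecialLinearGroup.coe_mul, Matrix.SpecialLinearGroup.coe_mul,
    Matrix.SpecialLinearGroup.coe_inv, Matrix.adjugate_fin_two]
  ext i j
  fin_cases i <;> fin_cases j <;> simp [scaleM, dg, Matrix.mul_apply, Fin.sum_univ_two, Matrix.vecMul, dotProduct] <;> field_simp

/-! ### The model satisfies the relations -/

theorem model_tor (l : (Fx F)ˣ) (g : SL(2, F)) :
    MulAut.conj (rL (psi hδ hδ') l) (lev g) = lev (scale (uF l) g) := by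
  rw [MulAut.conj_apply, mul_inv_eq_iff_eq_mul]
  refine ext_act fun a b c d => ?_
  rw [act_mul, act_mul, rL, lev_act, psi_act, psi_act, lev_act, scale_val]
  have : ((l : Fx F) : F) ≠ 0 := fun h => l.ne_zero (Subtype.ext h)
  simp [dg, scaleM, Units.val_inv_eq_inv_val, star_div₀]
  refine ⟨?_, ?_, ?_, ?_⟩ <;> field_simp

theorem model_act (t : Fˣ) (s : SL(2, Fx F)) :
    MulAut.conj (rD lev t) (psi hδ hδ' s) = psi hδ hδ' (scale (nrmU t) s) := by
  rw [MulAut.conj_apply, mul_inv_eq_iff_eq_mul]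
  refine ext_act fun a b c d => ?_
  rw [act_mul, act_mul, psi_act, D_act, D_act, psi_act, scale_val]
  have := t.ne_zero
  have : star (t : F) ≠ 0 := star_ne_zero.2 t.ne_zero
  simp [scaleM]
  refine ⟨?_, ?_⟩ <;> field_simp

theorem model_pp (s s' : SL(2, Fx F)) :
    Commute (psi hδ hδ' s) (MulAut.conj (lev (tw : SL(2, F))) (psi hδ hδ' s')) := by
  refine ext_act fun a b c d => ?_
  rw [MulAut.conj_apply, ← map_inv]
  simp only [act_mul, lev_act, psi_act, tw_inv_val]
  simp [tw]

theorem model_ux : Commute (psi hδ hδ' (un 1)) (rX lev (psi hδ hδ') 1) := by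
  refine ext_act fun a b c d => ?_
  simp only [act_mul, X_act, psi_act]
  simp [un]
  ring

theorem model_uy : MulAut.conj (psi hδ hδ' (un 1)) (rY lev 1) =
    rY lev 1 * rX lev (psi hδ hδ') 1 * rZ lev (psi hδ hδ') (nrm 1) := by
  rw [MulAut.conj_apply, mul_inv_eq_iff_eq_mul]
  refine ext_act fun a b c d => ?_
  simp only [act_mul, X_act, psi_act, Y_act, Z_act]
  simp [un]
  refine ⟨?_, ?_⟩ <;> ring

theorem model_wx : MulAut.conj (lev (tw : SL(2, F))) (rX lev (psi hδ hδ') 1) =
    rX lev (psi hδ hδ') (-star 1) := by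
  rw [MulAut.conj_apply, mul_inv_eq_iff_eq_mul]
  refine ext_act fun a b c d => ?_
  simp only [act_mul, X_act, lev_act]
  simp [tw]
  ring

theorem model_yx (r s : F) : rY lev r * rX lev (psi hδ hδ') s =
    rZ lev (psi hδ hδ') (tr2 r s) * rX lev (psi hδ hδ') s * rY lev r := by
  refine ext_act fun a b c d => ?_
  simp only [act_mul, X_act, Y_act, Z_act]
  simp
  ring

/-! ### The presentation -/

variable [Finite F]

/-- The word of an element of the first group. -/
abbrev wl : SL(2, F) →* Words SL(2, F) SL(2, Fx F) := Monoid.Coprod.inl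

/-- The word of an element of the second group. -/
abbrev wr : SL(2, Fx F) →* Words SL(2, F) SL(2, Fx F) := Monoid.Coprod.inr

/-- Relations of the rank one groups with the tori, among each other, and the seeds. -/
def relWord (t₀ : Fˣ) {a b e : ℕ} (gT : Fin a → SL(2, F)) (gA : Fin b → SL(2, Fx F))
    (gP : Fin e → SL(2, Fx F)) :
    (Fin a ⊕ Fin b ⊕ {p : Fin e × Fin e // p.1 ≤ p.2}) ⊕ (Fin 3 ⊕ {_u : Unit //
      star ((star (t₀ : F) / (t₀ : F)) ^ 2) = (star (t₀ : F) / (t₀ : F)) ^ 2}) →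
      Words SL(2, F) SL(2, Fx F)
  | .inl (.inl i) => MulAut.conj (rL wr (nrmU t₀)) (wl (gT i)) * (wl (scale (uF (nrmU t₀)) (gT i)))⁻¹
  | .inl (.inr (.inl i)) => MulAut.conj (rD wl t₀) (wr (gA i)) * (wr (scale (nrmU t₀) (gA i)))⁻¹
  | .inl (.inr (.inr p)) => wr (gP p.1.1) * MulAut.conj (wl tw) (wr (gP p.1.2)) *
      (MulAut.conj (wl tw) (wr (gP p.1.2)) * wr (gP p.1.1))⁻¹
  | .inr (.inl i) => ![wr (un 1) * rX wl wr 1 * (rX wl wr 1 * wr (un 1))⁻¹,
      MulAut.conj (wr (un 1)) (rY wl 1) * (rY wl 1 * rX wl wr 1 * rZ wl wr (nrm 1))⁻¹,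
      MulAut.conj (wl tw) (rX wl wr 1) * (rX wl wr (-star 1))⁻¹] i
  | .inr (.inr _) => rY wl 1 * rX wl wr (star (t₀ : F) / (t₀ : F)) *
      (rZ wl wr (tr2 1 (star (t₀ : F) / (t₀ : F))) * rX wl wr (star (t₀ : F) / (t₀ : F)) * rY wl 1)⁻¹

theorem card_unit_sub (p : Prop) [Decidable p] [Fintype {_u : Unit // p}] :
    Fintype.card {_u : Unit // p} = if p then 1 else 0 := by
  by_cases h : p
  · haveI : Unique {_u : Unit // p} := ⟨⟨⟨(), h⟩⟩, fun x => Subtype.ext rfl⟩
    rw [if_pos h, Fintype.card_unique]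
  · haveI : IsEmpty {_u : Unit // p} := ⟨fun x => h x.2⟩
    rw [if_neg h, Fintype.card_eq_zero]

open scoped _root_.Classical in
theorem pres_G4 (t₀ : Fˣ) (hω : star (star (t₀ : F) / (t₀ : F)) ≠ star (t₀ : F) / (t₀ : F))
    (hgen : ∀ t : Fˣ, t ∈ Subgroup.zpowers t₀) (hnorm : ∀ c : (Fx F)ˣ, ∃ t : Fˣ, nrmU t = c)
    {ι κ : Type} {f₁ : ι → SL(2, F)} {f₂ : κ → SL(2, Fx F)} {r₁ r₂ a b e : ℕ}
    (h₁ : PresOn f₁ r₁) (h₂ : PresOn f₂ r₂) (gT : Fin a → SL(2, F)) (gA : Fin b → SL(2, Fx F))
    (gP : Fin e → SL(2, Fx F)) (hT : Subgroup.closure (Set.range gT ∪ Set.range dg) = ⊤)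
    (hA : Subgroup.closure (Set.range gA) = ⊤) (hP : Subgroup.closure (Set.range gP ∪ Set.range dg) = ⊤)
    {k : ℕ} (hk : a + b + Nat.card {p : Fin e × Fin e // p.1 ≤ p.2} + 3 +
      (if star ((star (t₀ : F) / (t₀ : F)) ^ 2) = (star (t₀ : F) / (t₀ : F)) ^ 2 then 1 else 0) ≤ k) :
    PresOn (Sum.elim (lev ∘ f₁) (psi hδ hδ' ∘ f₂)) (r₁ + r₂ + k) := by
  classical
  let I := (Fin a ⊕ Fin b ⊕ {p : Fin e × Fin e // p.1 ≤ p.2}) ⊕ (Fin 3 ⊕ {_u : Unit //
      star ((star (t₀ : F) / (t₀ : F)) ^ 2) = (star (t₀ : F) / (t₀ : F)) ^ 2})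
  have hI : Fintype.card I ≤ k := by
    refine le_trans (le_of_eq ?_) hk
    simp only [I, Fintype.card_sum, Fintype.card_fin, Nat.card_eq_fintype_card, card_unit_sub]
    ring
  let eI := (Fintype.equivFin I).symm
  refine (PresOn.amalgam h₁ h₂ lev (psi hδ hδ') (fun i => relWord t₀ gT gA gP (eI i)) ?_ ?_).mono (by omega)
  · intro i
    generalize eI i = x
    have hl : ∀ g, Monoid.Coprod.lift lev (psi hδ hδ') (wl g) = lev g := fun g => Monoid.Coprod.lift_apply_inl ..
    have hr : ∀ g, Monoid.Coprod.lift lev (psi hδ hδ') (wr g) = psi hδ hδ' g := fun g =>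
      Monoid.Coprod.lift_apply_inr ..
    rcases x with ((i | i | p) | (i | u))
    · simp only [relWord, rL, MulAut.conj_apply, map_mul, map_inv, hl, hr, mul_inv_eq_one]
      exact model_tor hδ hδ' (nrmU t₀) (gT i)
    · simp only [relWord, rD, MulAut.conj_apply, map_mul, map_inv, hl, hr, mul_inv_eq_one]
      exact model_act hδ hδ' t₀ (gA i)
    · simp only [relWord, MulAut.conj_apply, map_mul, map_inv, hl, hr, mul_inv_eq_one]
      exact (model_pp hδ hδ' _ _).eq
    · fin_cases i
      · simp only [relWord, rX, rY, MulAut.conj_apply, Fin.zero_eta, Matrix.cons_val_zero, map_mul, map_inv, hl, hr,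
          mul_inv_eq_one]
        exact (model_ux hδ hδ').eq
      · simp only [relWord, rX, rY, rZ, MulAut.conj_apply, Fin.mk_one, Matrix.cons_val_one,
          Matrix.cons_val_zero, map_mul, map_inv, hl, hr, mul_inv_eq_one]
        exact model_uy hδ hδ'
      · simp only [relWord, rX, rY, MulAut.conj_apply, Fin.reduceFinMk, Matrix.cons_val, map_mul, map_inv, hl, hr, mul_inv_eq_one]
        have h := model_wx (F := F) hδ hδ'
        simp only [rX, rY, MulAut.conj_apply, map_mul, map_inv] at h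
        exact h
    · simp only [relWord, rX, rY, rZ, MulAut.conj_apply, map_mul, map_inv, hl, hr, mul_inv_eq_one]
      exact model_yx hδ hδ' 1 _
  intro H _ φ ψ π hφ hψ hg hR
  have hl : ∀ g, Monoid.Coprod.lift φ ψ (wl g) = φ g := fun g => Monoid.Coprod.lift_apply_inl ..
  have hr : ∀ g, Monoid.Coprod.lift φ ψ (wr g) = ψ g := fun g => Monoid.Coprod.lift_apply_inr ..
  have hrel : ∀ x : I, Monoid.Coprod.lift φ ψ (relWord t₀ gT gA gP x) = 1 := fun x => by
    have := hR (eI.symm x)
    rwa [Equiv.apply_symm_apply] at this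
  have dg1 : rD φ (1 : Fˣ) = 1 := by rw [rD, dg_one, map_one]
  have act1 : ∀ s, MulAut.conj (rD φ t₀) (ψ s) = ψ (scale (nrmU t₀) s) := DFunLike.congr_fun
    (MonoidHom.eq_of_eqOn_dense (f := (MulAut.conj (rD φ t₀)).toMonoidHom.comp ψ)
      (g := ψ.comp (scale (nrmU t₀))) hA (by
        rintro _ ⟨i, rfl⟩
        have := hrel (.inl (.inr (.inl i)))
        simp only [relWord, rD, MulAut.conj_apply, map_mul, map_inv, hl, hr, mul_inv_eq_one] at this
        exact this))
  have actAll : ∀ t s, MulAut.conj (rD φ t) (ψ s) = ψ (scale (nrmU t) s) := fun t => by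
    obtain ⟨m, rfl⟩ := zpow_surjective hgen t
    induction m with
    | zero => intro s; rw [pow_zero, dg1, map_one, map_one, scale_one]; rfl
    | succ m ih =>
      intro s
      rw [pow_succ, show rD φ (t₀ ^ m * t₀) = rD φ (t₀ ^ m) * rD φ t₀ by rw [rD, dg_mul, map_mul]; rfl,
        map_mul, MulAut.mul_apply, act1, ih, map_mul, scale_mul]
  have tor1 : ∀ g, MulAut.conj (rL ψ (nrmU t₀)) (φ g) = φ (scale (uF (nrmU t₀)) g) := DFunLike.congr_fun
    (MonoidHom.eq_of_eqOn_dense (f := (MulAut.conj (rL ψ (nrmU t₀))).toMonoidHom.comp φ)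
      (g := φ.comp (scale (uF (nrmU t₀)))) hT (by
        rintro _ (⟨i, rfl⟩ | ⟨t, rfl⟩)
        · have := hrel (.inl (.inl i))
          simp only [relWord, rL, MulAut.conj_apply, map_mul, map_inv, hl, hr, mul_inv_eq_one] at this
          exact this
        · show MulAut.conj (rL ψ (nrmU t₀)) (φ (dg t)) = φ (scale _ (dg t))
          have h := actAll t (dg (nrmU t₀))
          rw [scale_dg, MulAut.conj_apply, mul_inv_eq_iff_eq_mul] at h
          rw [scale_dg, MulAut.conj_apply, mul_inv_eq_iff_eq_mul]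
          exact h.symm))
  have torAll : ∀ l g, MulAut.conj (rL ψ l) (φ g) = φ (scale (uF l) g) := fun l => by
    obtain ⟨t, rfl⟩ := hnorm l
    obtain ⟨m, rfl⟩ := zpow_surjective hgen t
    induction m with
    | zero => intro g; rw [pow_zero, map_one, rL, dg_one, map_one, map_one, map_one, scale_one]; rfl
    | succ m ih =>
      intro g
      rw [pow_succ, map_mul, show rL ψ (nrmU (t₀ ^ m) * nrmU t₀) = rL ψ (nrmU (t₀ ^ m)) * rL ψ (nrmU t₀) by
        rw [rL, dg_mul, map_mul]; rfl, map_mul, MulAut.mul_apply, tor1, ih, map_mul, scale_mul]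
  have tw2 : ∀ s, MulAut.conj (φ tw) (MulAut.conj (φ tw) (ψ s)) = ψ s := fun s => by
    rw [cj_mul, ← map_mul, tw_tw, ← rD, actAll, show nrmU (-1 : Fˣ) = 1 from
      Units.ext (Subtype.ext (by simp)), scale_one]
  have Ls : ∀ (l : (Fx F)ˣ) (s : SL(2, Fx F)), Commute (ψ (dg l)) (MulAut.conj (φ tw) (ψ s)) := fun l s => by
    have h : MulAut.conj (rL ψ l) (MulAut.conj (φ tw) (ψ s)) = MulAut.conj (φ tw) (ψ s) := by
      rw [cj_cj, torAll, scale_tw, show dg (uF l) * (tw : SL(2, F)) = tw * dg (uF l)⁻¹ by rw [tw_dg, inv_inv],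
        map_mul, ← cj_mul, show MulAut.conj (rL ψ l) (ψ s) = ψ (dg l * s * (dg l)⁻¹) by
          rw [MulAut.conj_apply, rL, map_mul, map_mul, map_inv], ← rD, actAll, map_inv, nrmU_uF, scale_dg_conj]
    rw [MulAut.conj_apply, mul_inv_eq_iff_eq_mul] at h
    exact h
  have symm' : ∀ s s', Commute (ψ s) (MulAut.conj (φ tw) (ψ s')) → Commute (ψ s') (MulAut.conj (φ tw) (ψ s)) :=
    fun s s' h => by
      have h' := h.map (MulAut.conj (φ tw))
      rw [tw2] at h'
      exact h'.symm
  have pp : ∀ s s', Commute (ψ s) (MulAut.conj (φ tw) (ψ s')) := by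
    let C : SL(2, Fx F) → Subgroup SL(2, Fx F) := fun s' => (Subgroup.centralizer {MulAut.conj (φ tw) (ψ s')}).comap ψ
    have hC : ∀ s s', s ∈ C s' ↔ Commute (ψ s) (MulAut.conj (φ tw) (ψ s')) := fun s s' => by
      simp [C, Subgroup.mem_centralizer_iff, commute_iff_eq, eq_comm]
    have hbase : ∀ x ∈ Set.range gP ∪ Set.range dg, ∀ y ∈ Set.range gP ∪ Set.range dg, x ∈ C y := by
      rintro _ (⟨i, rfl⟩ | ⟨l, rfl⟩) _ (⟨j, rfl⟩ | ⟨m, rfl⟩) <;> rw [hC]
      · rcases le_total i j with h | h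
        · have := hrel (.inl (.inr (.inr ⟨(i, j), h⟩)))
          simp only [relWord, MulAut.conj_apply, map_mul, map_inv, hl, hr, mul_inv_eq_one] at this
          exact this
        · refine symm' _ _ ?_
          have := hrel (.inl (.inr (.inr ⟨(j, i), h⟩)))
          simp only [relWord, MulAut.conj_apply, map_mul, map_inv, hl, hr, mul_inv_eq_one] at this
          exact this
      · exact symm' _ _ (Ls m (gP i))
      · exact Ls l _
      · exact Ls l _
    have h1 : ∀ y ∈ Set.range gP ∪ Set.range dg, ∀ s, Commute (ψ s) (MulAut.conj (φ tw) (ψ y)) := fun y hy s =>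
      (hC s y).1 (((Subgroup.closure_le _).2 fun x hx => hbase x hx y hy) (hP ▸ Subgroup.mem_top s))
    intro s s'
    refine symm' s' s ((hC s' s).1 (((Subgroup.closure_le (C s)).2 fun y hy => ?_) (hP ▸ Subgroup.mem_top s')))
    exact (hC y s).2 (symm' _ _ (h1 y hy s))
  have hs : ∀ i : Fin 3, Monoid.Coprod.lift φ ψ (relWord t₀ gT gA gP (.inr (.inl i))) = 1 := fun i => hrel _
  let S : Seeds φ ψ δ t₀ hδ hδ' :=
    { π := π
      hφ := hφ
      hψ := hψ
      gen := hg
      norm := hnorm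
      hω := hω
      tor := torAll
      act := actAll
      zψ := fun s => pp s (un 1)
      tt := pp tw tw
      ux1 := by
        have := hs 0
        simp only [relWord, rX, rY, MulAut.conj_apply, Matrix.cons_val_zero, map_mul, map_inv, hl, hr,
          mul_inv_eq_one] at this
        exact this
      uy1 := by
        have := hs 1
        simp only [relWord, rX, rY, rZ, MulAut.conj_apply, Matrix.cons_val_one, Matrix.cons_val_zero, map_mul,
          map_inv, hl, hr, mul_inv_eq_one] at this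
        exact this
      wx1 := by
        have := hs 2
        simp only [relWord, rX, rY, MulAut.conj_apply, Matrix.cons_val, map_mul, map_inv, hl, hr,
          mul_inv_eq_one] at this
        simp only [rX, rY, MulAut.conj_apply, map_mul, map_inv]
        exact this
      yx1 := fun h => by
        have := hrel (.inr (.inr ⟨(), h⟩))
        simp only [relWord, rX, rY, rZ, MulAut.conj_apply, map_mul, map_inv, hl, hr, mul_inv_eq_one] at this
        exact this }
  exact S.toRels.bijective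

end Cfsg.Agent.Small.SUPres.U4
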