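import Cfsg.Agent.Lib.Small.SUPres.U4.Model

/-!
Groups mapping to the four-dimensional special unitary group and satisfying the short list of relations
between the two rank one subgroups; the root subgroups and their commutator laws.
-/

set_option autoImplicit false
set_option linter.unusedSectionVars false
set_option linter.unusedSimpArgs false

namespace Cfsg.Agent.Small.SUPres.U4

open Matrix Cfsg.Agent.Lead.SL2Pres
open scoped MatrixGroups

/-! ### Two by two matrices -/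

section

variable {K : Type*} [Field K]

/-- Conjugation of a matrix by `diag(a, 1)`. -/
def scaleM (a : Kˣ) (M : Matrix (Fin 2) (Fin 2) K) : Matrix (Fin 2) (Fin 2) K :=
  !![M 0 0, (a : K) * M 0 1; M 1 0 / (a : K), M 1 1]

theorem scaleM_mul (a : Kˣ) (M N : Matrix (Fin 2) (Fin 2) K) : scaleM a (M * N) = scaleM a M * scaleM a N := by
  ext i j
  fin_cases i <;> fin_cases j <;> simp [scaleM, Matrix.mul_apply, Fin.sum_univ_two] <;> field_simp

theorem scaleM_det (a : Kˣ) (M : Matrix (Fin 2) (Fin 2) K) : (scaleM a M).det = M.det := by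
  rw [Matrix.det_fin_two, Matrix.det_fin_two]
  simp [scaleM]
  field_simp

/-- Conjugation by `diag(a, 1)`. -/
def scale (a : Kˣ) : SL(2, K) →* SL(2, K) where
  toFun g := ⟨scaleM a g.1, (scaleM_det a g.1).trans g.2⟩
  map_one' := by
    apply Subtype.ext
    show scaleM a 1 = 1
    ext i j
    fin_cases i <;> fin_cases j <;> simp [scaleM]
  map_mul' g h := Subtype.ext (scaleM_mul a g.1 h.1)

theorem scale_val (a : Kˣ) (g : SL(2, K)) : (scale a g).1 = scaleM a g.1 := rfl

theorem scale_inv (a : Kˣ) (g : SL(2, K)) : scale a (scale a⁻¹ g) = g := by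
  apply Subtype.ext
  rw [scale_val, scale_val]
  ext i j
  fin_cases i <;> fin_cases j <;> simp [scaleM]

theorem scale_ln (a : Kˣ) (u : K) : scale a (ln u) = ln (u / a) := by
  apply Subtype.ext
  rw [scale_val]
  ext i j
  fin_cases i <;> fin_cases j <;> simp [scaleM, ln]

theorem scale_un (a : Kˣ) (c : K) : scale a (un c) = un ((a : K) * c) := by
  apply Subtype.ext
  rw [scale_val]
  ext i j
  fin_cases i <;> fin_cases j <;> simp [scaleM, un]

theorem scale_dg (a l : Kˣ) : scale a (dg l) = dg l := by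
  apply Subtype.ext
  rw [scale_val]
  ext i j
  fin_cases i <;> fin_cases j <;> simp [scaleM, dg]

theorem scale_tw (a : Kˣ) : scale a tw = dg a * tw := by
  apply Subtype.ext
  rw [scale_val, Matrix.SpecialLinearGroup.coe_mul]
  ext i j
  fin_cases i <;> fin_cases j <;> simp [scaleM, dg, tw, Matrix.mul_apply, Fin.sum_univ_two, div_eq_mul_inv]

theorem ln_add' (a b : K) : ln (a + b) = ln a * ln b := by
  apply Matrix.SpecialLinearGroup.ext
  intro i j
  simp only [Matrix.SpecialLinearGroup.coe_mul]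
  fin_cases i <;> fin_cases j <;> simp [ln, Matrix.mul_apply, Fin.sum_univ_two]

theorem dg_ln (t : Kˣ) (u : K) : dg t * ln u = ln (u / (t : K) ^ 2) * dg t := by
  apply Matrix.SpecialLinearGroup.ext
  intro i j
  simp only [Matrix.SpecialLinearGroup.coe_mul]
  fin_cases i <;> fin_cases j <;> simp [ln, dg, Matrix.mul_apply, Fin.sum_univ_two] <;> field_simp

/-- A set closed under addition and containing the nonzero squares is everything. -/
theorem sq_induction [Finite K] (P : K → Prop) (h0 : P 0) (hadd : ∀ x y, P x → P y → P (x + y))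
    (hsq : ∀ t : Kˣ, P ((t : K) ^ 2)) : ∀ x, P x := by
  haveI := Fintype.ofFinite K
  have hn : ∀ (k : ℕ) x, P x → P (k • x) := fun k x hx => by
    induction k with
    | zero => simpa using h0
    | succ k ih => rw [succ_nsmul]; exact hadd _ _ ih hx
  have hneg : ∀ x, P x → P (-x) := fun x hx => by
    have h : (Fintype.card K - 1) • x + x = 0 := by
      rw [← succ_nsmul, Nat.sub_add_cancel (Fintype.card_pos), card_nsmul_eq_zero]
    rw [← eq_neg_of_add_eq_zero_left h]
    exact hn _ _ hx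
  have hs : ∀ y : K, P (y ^ 2) := fun y => by
    rcases eq_or_ne y 0 with rfl | hy
    · simpa using h0
    · exact hsq (Units.mk0 y hy)
  intro x
  by_cases h2 : (2 : K) = 0
  · haveI : CharP K 2 := CharTwo.of_one_ne_zero_of_two_eq_zero one_ne_zero h2
    obtain ⟨y, hy⟩ := FiniteField.isSquare_of_char_two (ringChar.eq K 2) x
    rw [hy, ← sq]
    exact hs y
  · have := hadd _ _ (hs ((x + 1) / 2)) (hneg _ (hs ((x - 1) / 2)))
    convert this using 1
    field_simp
    ring

end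

/-! ### The fixed field -/

variable {F : Type*} [Field F] [StarRing F]

/-- Units of the fixed field as units. -/
def uF : (Fx F)ˣ →* Fˣ := Units.map (fixF F).subtype.toMonoidHom

@[simp] theorem uF_val (l : (Fx F)ˣ) : ((uF l : Fˣ) : F) = ((l : Fx F) : F) := rfl

/-- The norm. -/
def nrm (u : F) : Fx F := ⟨u * star u, show star (u * star u) = u * star u by rw [star_mul', star_star, mul_comm]⟩

@[simp] theorem nrm_val (u : F) : (nrm u : F) = u * star u := rfl

/-- The norm of units. -/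
def nrmU : Fˣ →* (Fx F)ˣ where
  toFun t := Units.mk0 (nrm (t : F)) fun h => by
    have := congrArg Subtype.val h
    simp at this
  map_one' := by
    apply Units.ext; apply Subtype.ext; simp
  map_mul' a b := by
    apply Units.ext; apply Subtype.ext; simp; ring

@[simp] theorem nrmU_val (t : Fˣ) : (((nrmU t : (Fx F)ˣ) : Fx F) : F) = (t : F) * star (t : F) := rfl

theorem nrmU_uF (l : (Fx F)ˣ) : nrmU (uF l) = l ^ 2 := by
  apply Units.ext; apply Subtype.ext; simp [sq]

/-- The commutator form. -/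
def tr2 (r s : F) : Fx F := ⟨-(r * star s + star r * s), show star (-(r * star s + star r * s)) = _ by
  simp only [star_neg, star_add, star_mul', star_star]; ring⟩

@[simp] theorem tr2_val (r s : F) : (tr2 r s : F) = -(r * star s + star r * s) := rfl

theorem exists_combination {ω : F} (hω : star ω ≠ ω) (u : F) : ∃ a b : Fx F, u = (a : F) + (b : F) * ω := by
  have hne : ω - star ω ≠ 0 := sub_ne_zero.2 (Ne.symm hω)
  set b := (u - star u) / (ω - star ω) with hb
  have hbs : star b = b := by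
    rw [hb, star_div₀, star_sub, star_sub, star_star, star_star, ← neg_sub u, ← neg_sub ω, neg_div_neg_eq]
  refine ⟨⟨u - b * ω, ?_⟩, ⟨b, hbs⟩, ?_⟩
  · show star (u - b * ω) = u - b * ω
    have : b * (ω - star ω) = u - star u := div_mul_cancel₀ _ hne
    rw [star_sub, star_mul', hbs]
    linear_combination this
  · simp

/-! ### Root elements -/

variable {H : Type*} [Group H] (φ : SL(2, F) →* H) (ψ : SL(2, Fx F) →* H)

/-- The root elements of the Levi group. -/
def rY (u : F) : H := φ (ln u)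

/-- The second short root elements. -/
def rX (u : F) : H := MulAut.conj (ψ tw) (rY φ u)

/-- The central root elements. -/
def rZ (c : Fx F) : H := MulAut.conj (φ tw) (ψ (un c))

/-- The torus of the Levi group. -/
def rD (t : Fˣ) : H := φ (dg t)

/-- The torus of the long root group. -/
def rL (l : (Fx F)ˣ) : H := ψ (dg l)

/-- The two rank one subgroups with the relations of the tori. -/
structure Base (δ : F) (ω : F) (hδ : δ ≠ 0) (hδ' : star δ = -δ) where
  π : H →* G4 F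
  hφ : ∀ g, π (φ g) = lev g
  hψ : ∀ s, π (ψ s) = psi hδ hδ' s
  gen : φ.range ⊔ ψ.range = ⊤
  norm : ∀ c : (Fx F)ˣ, ∃ t : Fˣ, nrmU t = c
  hω : star ω ≠ ω
  tor : ∀ (l : (Fx F)ˣ) (g : SL(2, F)), MulAut.conj (rL ψ l) (φ g) = φ (scale (uF l) g)
  act : ∀ (t : Fˣ) (s : SL(2, Fx F)), MulAut.conj (rD φ t) (ψ s) = ψ (scale (nrmU t) s)
  zψ : ∀ s, Commute (ψ s) (rZ φ ψ 1)
  tt : Commute (ψ tw) (MulAut.conj (φ tw) (ψ tw))

/-- The relations. -/
structure Rels (δ : F) (ω : F) (hδ : δ ≠ 0) (hδ' : star δ = -δ) extends Base φ ψ δ ω hδ hδ' where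
  yz : ∀ u ∈ ({1, ω} : Set F), Commute (rY φ u) (rZ φ ψ 1)
  yx : ∀ r ∈ ({1, ω} : Set F), ∀ s ∈ ({1, ω} : Set F),
    rY φ r * rX φ ψ s = rZ φ ψ (tr2 r s) * rX φ ψ s * rY φ r
  ux : ∀ u ∈ ({1, ω} : Set F), Commute (ψ (un 1)) (rX φ ψ u)
  uy : ∀ u ∈ ({1, ω} : Set F), MulAut.conj (ψ (un 1)) (rY φ u) = rY φ u * rX φ ψ u * rZ φ ψ (nrm u)
  wx : ∀ u ∈ ({1, ω} : Set F), MulAut.conj (φ tw) (rX φ ψ u) = rX φ ψ (-star u)

theorem cj_cj (g h x : H) : MulAut.conj g (MulAut.conj h x) = MulAut.conj (MulAut.conj g h) (MulAut.conj g x) := by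
  simp only [MulAut.conj_apply]
  group

theorem cj_mul (g h x : H) : MulAut.conj g (MulAut.conj h x) = MulAut.conj (g * h) x := by
  rw [map_mul, MulAut.mul_apply]

namespace Base

variable {φ ψ} {δ ω : F} {hδ : δ ≠ 0} {hδ' : star δ = -δ} (R : Base φ ψ δ ω hδ hδ')

theorem Y_add (u v : F) : rY φ (u + v) = rY φ u * rY φ v := by rw [rY, ln_add', map_mul]; rfl

theorem Y_zero : rY φ (0 : F) = 1 := by
  have h := Y_add (φ := φ) 0 0
  rw [add_zero] at h
  exact mul_eq_left.1 h.symm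

theorem X_add (u v : F) : rX φ ψ (u + v) = rX φ ψ u * rX φ ψ v := by rw [rX, Y_add, map_mul]; rfl

theorem X_zero : rX φ ψ (0 : F) = 1 := by rw [rX, Y_zero, map_one]

theorem Z_add (c d : Fx F) : rZ φ ψ (c + d) = rZ φ ψ c * rZ φ ψ d := by
  rw [rZ, un_add, map_mul, map_mul]; rfl

theorem Z_zero : rZ φ ψ (0 : Fx F) = 1 := by
  have h := Z_add (φ := φ) (ψ := ψ) 0 0
  rw [add_zero] at h
  exact mul_eq_left.1 h.symm

theorem D_Y (t : Fˣ) (u : F) : MulAut.conj (rD φ t) (rY φ u) = rY φ (u / (t : F) ^ 2) := by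
  rw [MulAut.conj_apply, rD, rY, ← map_mul, dg_ln, map_mul, mul_inv_cancel_right, rY]

include R

theorem L_Y (l : (Fx F)ˣ) (u : F) : MulAut.conj (rL ψ l) (rY φ u) = rY φ (u / ((l : Fx F) : F)) := by
  rw [rY, R.tor, scale_ln, rY, uF_val]

theorem D_L (t : Fˣ) (l : (Fx F)ˣ) : MulAut.conj (rD φ t) (rL ψ l) = rL ψ l := by
  rw [rL, R.act, scale_dg]

theorem L_D (t : Fˣ) (l : (Fx F)ˣ) : MulAut.conj (rL ψ l) (rD φ t) = rD φ t := by
  rw [rD, R.tor, scale_dg]

theorem L_twφ (l : (Fx F)ˣ) : rL ψ l * φ tw = rD φ (uF l) * φ tw * rL ψ l := by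
  rw [← mul_inv_eq_iff_eq_mul, ← MulAut.conj_apply, R.tor, scale_tw, map_mul, rD]

theorem D_twψ (t : Fˣ) : rD φ t * ψ tw = rL ψ (nrmU t) * ψ tw * rD φ t := by
  rw [← mul_inv_eq_iff_eq_mul, ← MulAut.conj_apply, R.act, scale_tw, map_mul, rL]

theorem L_un (l : (Fx F)ˣ) (c : Fx F) : MulAut.conj (rL ψ l) (ψ (un c)) = ψ (un ((l : Fx F) ^ 2 * c)) := by
  rw [MulAut.conj_apply, rL, ← map_mul, dg_un, map_mul, mul_inv_cancel_right]

theorem D_un (t : Fˣ) (c : Fx F) : MulAut.conj (rD φ t) (ψ (un c)) = ψ (un (nrm (t : F) * c)) := by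
  rw [R.act, scale_un]; rfl

theorem L_X (l : (Fx F)ˣ) (u : F) : MulAut.conj (rL ψ l) (rX φ ψ u) = rX φ ψ (((l : Fx F) : F) * u) := by
  rw [rX, cj_mul, show rL ψ l * ψ tw = ψ tw * rL ψ l⁻¹ by
    rw [rL, rL, ← map_mul, ← map_mul, tw_dg, inv_inv], ← cj_mul, R.L_Y, rX]
  congr 2
  rw [Units.val_inv_eq_inv_val]
  push_cast
  rw [div_inv_eq_mul, mul_comm]

theorem D_X (t : Fˣ) (u : F) : MulAut.conj (rD φ t) (rX φ ψ u) = rX φ ψ (star (t : F) / (t : F) * u) := by
  rw [rX, cj_mul, R.D_twψ, ← cj_mul, D_Y, ← cj_mul, ← rX, R.L_X]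
  congr 1
  rw [nrmU_val]
  have := t.ne_zero
  field_simp

theorem D_Z (t : Fˣ) (c : Fx F) : MulAut.conj (rD φ t) (rZ φ ψ c) = rZ φ ψ (c / nrm (t : F)) := by
  rw [rZ, cj_mul, show rD φ t * φ tw = φ tw * rD φ t⁻¹ by
    rw [rD, rD, ← map_mul, ← map_mul, tw_dg, inv_inv], ← cj_mul, R.D_un, rZ]
  congr 3
  apply Subtype.ext
  simp [Units.val_inv_eq_inv_val, div_eq_mul_inv]
  ring

theorem L_Z (l : (Fx F)ˣ) (c : Fx F) : MulAut.conj (rL ψ l) (rZ φ ψ c) = rZ φ ψ c := by
  rw [rZ, cj_mul, R.L_twφ, ← cj_mul, R.L_un, ← cj_mul, ← rZ, R.D_Z, ← rZ]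
  congr 1
  apply Subtype.ext
  have h : ((l : Fx F) : F) ≠ 0 := fun h => l.ne_zero (Subtype.ext h)
  simp
  field_simp

/-! ### The centre of the unipotent group -/

theorem zψ_all (s : SL(2, Fx F)) (c : Fx F) : Commute (ψ s) (rZ φ ψ c) := by
  rcases eq_or_ne c 0 with rfl | hc
  · rw [Z_zero]; exact Commute.one_right _
  obtain ⟨t, ht⟩ := R.norm (Units.mk0 c hc)⁻¹
  have h := (R.zψ (scale (nrmU t)⁻¹ s)).map (MulAut.conj (rD φ t))
  rw [R.act, scale_inv, R.D_Z, show (1 : Fx F) / nrm (t : F) = c by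
    have : nrm (t : F) = c⁻¹ := by simpa [nrmU, Units.ext_iff] using ht
    rw [this, one_div, inv_inv]] at h
  exact h

theorem UX_line [Finite F] (u0 : F) (h0 : Commute (ψ (un 1)) (rX φ ψ u0)) :
    ∀ a c : Fx F, Commute (ψ (un c)) (rX φ ψ ((a : F) * u0)) := by
  have hb : ∀ c : Fx F, Commute (ψ (un c)) (rX φ ψ u0) := by
    refine sq_induction (fun c : Fx F => Commute (ψ (un c)) (rX φ ψ u0)) ?_ ?_ ?_
    · show Commute _ _
      rw [show un (0 : Fx F) = 1 from Matrix.SpecialLinearGroup.ext _ _ fun i j => by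
        fin_cases i <;> fin_cases j <;> simp [un], map_one]
      exact Commute.one_left _
    · intro x y hx hy
      show Commute _ _
      rw [un_add, map_mul]
      exact hx.mul_left hy
    · intro t
      have ht : ((t : Fx F) : F) ≠ 0 := fun h => t.ne_zero (Subtype.ext h)
      have h := h0.map (MulAut.conj (rD φ (uF t)))
      rw [R.D_un, R.D_X] at h
      convert h using 4
      · simp [nrm, sq]; rfl
      · simp [ht]
  intro a c
  rcases eq_or_ne a 0 with rfl | ha
  · simp [X_zero]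
  have h := (hb (c / a ^ 2)).map (MulAut.conj (rL ψ (Units.mk0 a ha)))
  rw [R.L_un, R.L_X] at h
  convert h using 4
  · simp only [Units.val_mk0]
    field_simp
  · rfl

theorem WX_line [Finite F] (u0 : F) (h0 : MulAut.conj (φ tw) (rX φ ψ u0) = rX φ ψ (-star u0)) :
    ∀ a : Fx F, MulAut.conj (φ tw) (rX φ ψ ((a : F) * u0)) = rX φ ψ (-star ((a : F) * u0)) := by
  refine sq_induction (fun a : Fx F =>
    MulAut.conj (φ tw) (rX φ ψ ((a : F) * u0)) = rX φ ψ (-star ((a : F) * u0))) ?_ ?_ ?_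
  · simp [X_zero]
  · intro x y hx hy
    show _ = _
    rw [AddMemClass.coe_add, add_mul, star_add, neg_add, X_add, X_add, map_mul]
    exact congrArg₂ (· * ·) hx hy
  · intro m
    have hm : ((m : Fx F) : F) ≠ 0 := fun h => m.ne_zero (Subtype.ext h)
    set E := rD φ (uF m⁻¹) * rL ψ (m ^ 2) with hE
    have hEt : E * φ tw = φ tw * E := by
      rw [hE, mul_assoc, R.L_twφ, ← mul_assoc, ← mul_assoc, rD, rD, ← map_mul, ← dg_mul, ← map_mul,
        show uF m⁻¹ * uF (m ^ 2) = (uF m⁻¹)⁻¹ by rw [← map_mul, ← map_inv]; congr 1; group,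
        show dg (uF m⁻¹)⁻¹ * (tw : SL(2, F)) = tw * dg (uF m⁻¹) by rw [tw_dg], map_mul, mul_assoc]
    have h := congrArg (MulAut.conj E) h0
    rw [cj_mul, hEt, ← cj_mul, hE, ← cj_mul, ← cj_mul, R.L_X, R.L_X, R.D_X, R.D_X] at h
    convert h using 3 <;> simp [hm]

theorem UY_line [Finite F] (u0 : F) (hux : Commute (ψ (un 1)) (rX φ ψ u0))
    (hxz : ∀ a d : Fx F, Commute (rX φ ψ ((a : F) * u0)) (rZ φ ψ d))
    (h0 : MulAut.conj (ψ (un 1)) (rY φ u0) = rY φ u0 * rX φ ψ u0 * rZ φ ψ (nrm u0)) :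
    ∀ a c : Fx F, MulAut.conj (ψ (un c)) (rY φ ((a : F) * u0)) =
      rY φ ((a : F) * u0) * rX φ ψ ((c : F) * ((a : F) * u0)) * rZ φ ψ (c * nrm ((a : F) * u0)) := by
  let P : Fx F → F → Prop := fun c u =>
    MulAut.conj (ψ (un c)) (rY φ u) = rY φ u * rX φ ψ ((c : F) * u) * rZ φ ψ (c * nrm u)
  have hfX : ∀ c d : Fx F, MulAut.conj (ψ (un c)) (rX φ ψ ((d : F) * u0)) = rX φ ψ ((d : F) * u0) := fun c d => by
    rw [MulAut.conj_apply, (R.UX_line u0 hux d c).eq, mul_inv_cancel_right]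
  have hfZ : ∀ c d, MulAut.conj (ψ (un c)) (rZ φ ψ d) = rZ φ ψ d := fun c d => by
    rw [MulAut.conj_apply, (R.zψ_all _ d).eq, mul_inv_cancel_right]
  have h0c : ∀ u, P 0 u := fun u => by
    show _ = _
    rw [show un (0 : Fx F) = 1 from Matrix.SpecialLinearGroup.ext _ _ fun i j => by
        fin_cases i <;> fin_cases j <;> simp [un], map_one, map_one, zero_mul, ZeroMemClass.coe_zero,
      zero_mul, X_zero, Z_zero, mul_one, mul_one]
    rfl
  have hc : ∀ x y, P x u0 → P y u0 → P (x + y) u0 := fun x y hx hy => by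
    show _ = _
    rw [un_add, map_mul, ← cj_mul, show MulAut.conj (ψ (un y)) (rY φ u0) = _ from hy, map_mul, map_mul,
      hfX, hfZ, show MulAut.conj (ψ (un x)) (rY φ u0) = _ from hx, AddMemClass.coe_add, add_mul, add_mul,
      X_add, Z_add]
    simp only [mul_assoc]
    rw [← mul_assoc (rZ φ ψ _) (rX φ ψ _), ← (hxz _ _).eq, mul_assoc]
  have hb : ∀ c, P c u0 := by
    refine sq_induction (fun c : Fx F => P c u0) (h0c u0) (fun x y => hc x y) fun t => ?_
    have ht : ((t : Fx F) : F) ≠ 0 := fun h => t.ne_zero (Subtype.ext h)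
    have h := congrArg (fun x => MulAut.conj (rL ψ (t ^ 2)) (MulAut.conj (rD φ (uF t⁻¹)) x)) h0
    simp only [cj_cj, map_mul, R.D_un, D_Y, R.D_X, R.D_Z, R.L_un, R.L_Y, R.L_X, R.L_Z] at h
    show MulAut.conj (ψ (un _)) _ = _
    convert h using 5 <;>
      first | (apply Subtype.ext; simp; (try field_simp); done) | (apply Subtype.ext; simp; (try field_simp); ring1) | (simp; (try field_simp); done)
  intro a c
  rcases eq_or_ne a 0 with rfl | ha
  · show _ = _
    rw [show ((0 : Fx F) : F) * u0 = 0 by simp, Y_zero, map_one, mul_zero, X_zero,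
      show nrm (0 : F) = 0 from Subtype.ext (by simp), mul_zero, Z_zero, mul_one, mul_one]
  have ha' : (a : F) ≠ 0 := fun h => ha (Subtype.ext h)
  have h := congrArg (MulAut.conj (rL ψ (Units.mk0 a ha)⁻¹)) (hb (c * a ^ 2))
  simp only [cj_cj, map_mul, R.L_un, R.L_Y, R.L_X, R.L_Z] at h
  show MulAut.conj (ψ (un _)) _ = _
  rw [show c * nrm ((a : F) * u0) = c * a ^ 2 * nrm u0 from Subtype.ext (by simp; ring)]
  convert h using 4
  all_goals try (first | (apply Subtype.ext; simp; field_simp; done) | (apply Subtype.ext; simp; field_simp; ring1) | (simp; field_simp; done))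

/-- The commutator of two root elements from the action of a long root element on three. -/
theorem YX_of_UY (hxz : ∀ a d, Commute (rX φ ψ a) (rZ φ ψ d)) (hyz : ∀ a d, Commute (rY φ a) (rZ φ ψ d))
    {c : Fx F} {u v : F}
    (hu : MulAut.conj (ψ (un c)) (rY φ u) = rY φ u * rX φ ψ ((c : F) * u) * rZ φ ψ (c * nrm u))
    (hv : MulAut.conj (ψ (un c)) (rY φ v) = rY φ v * rX φ ψ ((c : F) * v) * rZ φ ψ (c * nrm v))
    (huv : MulAut.conj (ψ (un c)) (rY φ (u + v)) =
      rY φ (u + v) * rX φ ψ ((c : F) * (u + v)) * rZ φ ψ (c * nrm (u + v))) :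
    rY φ v * rX φ ψ ((c : F) * u) = rZ φ ψ (tr2 v ((c : F) * u)) * rX φ ψ ((c : F) * u) * rY φ v := by
  have hz : ∀ a d e, rZ φ ψ d * (rY φ a * e) = rY φ a * (rZ φ ψ d * e) := fun a d e => by
    rw [← mul_assoc, ← (hyz a d).eq, mul_assoc]
  have hz' : ∀ a d e, rZ φ ψ d * (rX φ ψ a * e) = rX φ ψ a * (rZ φ ψ d * e) := fun a d e => by
    rw [← mul_assoc, ← (hxz a d).eq, mul_assoc]
  set e := tr2 v ((c : F) * u) with he
  have key : rX φ ψ ((c : F) * u) * rY φ v = rY φ v * rX φ ψ ((c : F) * u) * rZ φ ψ (-e) := by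
    rw [Y_add, map_mul, hu, hv, show c * nrm (u + v) = -e + (c * nrm u + c * nrm v) from
      Subtype.ext (by rw [he]; simp; ring), Z_add, Z_add, mul_add, X_add] at huv
    simp only [mul_assoc] at huv
    simp only [hz, hz'] at huv
    have h := mul_left_cancel huv
    simp only [← mul_assoc] at h ⊢
    have h := mul_right_cancel (mul_right_cancel h)
    rw [mul_assoc (rY φ v * rX φ ψ ((c : F) * u)) _ (rZ φ ψ (-e))] at h
    rw [((hxz ((c : F) * v) (-e))).eq, ← mul_assoc] at h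
    exact mul_right_cancel h
  rw [mul_assoc (rZ φ ψ e), key]
  simp only [← mul_assoc]
  rw [show rZ φ ψ e * rY φ v = rY φ v * rZ φ ψ e from (hyz v e).eq.symm, mul_assoc (rY φ v) (rZ φ ψ e),
    ← (hxz ((c : F) * u) e).eq, ← mul_assoc, mul_assoc _ (rZ φ ψ e) (rZ φ ψ (-e)), ← Z_add, add_neg_cancel, Z_zero, mul_one]

end Base

namespace Rels

open Base

variable {φ ψ} {δ ω : F} {hδ : δ ≠ 0} {hδ' : star δ = -δ} (R : Rels φ ψ δ ω hδ hδ')

include R

theorem YZ_all (u : F) (c : Fx F) : Commute (rY φ u) (rZ φ ψ c) := by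
  have hb : ∀ u0 ∈ ({1, ω} : Set F), ∀ a : Fx F, Commute (rY φ ((a : F) * u0)) (rZ φ ψ 1) := by
    intro u0 h0 a
    rcases eq_or_ne a 0 with rfl | ha
    · simp [Y_zero]
    have h := (R.yz u0 h0).map (MulAut.conj (rL ψ (Units.mk0 a ha)⁻¹))
    rw [R.L_Y, R.L_Z] at h
    convert h using 2
    rw [Units.val_inv_eq_inv_val]
    push_cast
    simp [mul_comm]
  have h1 : ∀ u, Commute (rY φ u) (rZ φ ψ 1) := fun u => by
    obtain ⟨a, b, rfl⟩ := exists_combination R.hω u
    rw [Y_add]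
    have := hb 1 (by simp) a
    rw [mul_one] at this
    exact this.mul_left (hb ω (by simp) b)
  rcases eq_or_ne c 0 with rfl | hc
  · rw [Z_zero]; exact Commute.one_right _
  obtain ⟨t, ht⟩ := R.norm (Units.mk0 c hc)⁻¹
  have h := (h1 (u * (t : F) ^ 2)).map (MulAut.conj (rD φ t))
  rw [D_Y, R.D_Z, mul_div_cancel_right₀ _ (pow_ne_zero _ t.ne_zero), show (1 : Fx F) / nrm (t : F) = c by
    have : nrm (t : F) = c⁻¹ := by simpa [nrmU, Units.ext_iff] using ht
    rw [this, one_div, inv_inv]] at h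
  exact h

theorem XZ_all (u : F) (c : Fx F) : Commute (rX φ ψ u) (rZ φ ψ c) := by
  have h := (R.YZ_all u c).map (MulAut.conj (ψ tw))
  rwa [show MulAut.conj (ψ tw) (rZ φ ψ c) = rZ φ ψ c by
    rw [MulAut.conj_apply, (R.zψ_all tw c).eq, mul_inv_cancel_right]] at h

/-! ### The commutator of the two short root groups -/

theorem YX_all [Finite F] (r s : F) : rY φ r * rX φ ψ s = rZ φ ψ (tr2 r s) * rX φ ψ s * rY φ r := by
  let P : F → F → Prop := fun r s => rY φ r * rX φ ψ s = rZ φ ψ (tr2 r s) * rX φ ψ s * rY φ r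
  have h0r : ∀ s, P 0 s := fun s => by
    show _ = _
    rw [Y_zero, show tr2 (0 : F) s = 0 from Subtype.ext (by simp), Z_zero]
    group
  have h0s : ∀ r, P r 0 := fun r => by
    show _ = _
    rw [X_zero, show tr2 r (0 : F) = 0 from Subtype.ext (by simp), Z_zero]
    group
  have hr : ∀ r r' s, P r s → P r' s → P (r + r') s := fun r r' s h h' => by
    show _ = _
    rw [Y_add, mul_assoc, show rY φ r' * rX φ ψ s = _ from h', mul_assoc (rZ φ ψ _), ← mul_assoc,
      (R.YZ_all r _).eq, mul_assoc, ← mul_assoc (rY φ r), show rY φ r * rX φ ψ s = _ from h,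
      show tr2 (r + r') s = tr2 r' s + tr2 r s from Subtype.ext (by simp; ring), Z_add]
    simp only [mul_assoc]
  have hs : ∀ r s s', P r s → P r s' → P r (s + s') := fun r s s' h h' => by
    show _ = _
    rw [X_add, ← mul_assoc, show rY φ r * rX φ ψ s = _ from h, mul_assoc (rZ φ ψ _ * _),
      show rY φ r * rX φ ψ s' = _ from h', show tr2 r (s + s') = tr2 r s + tr2 r s' from
      Subtype.ext (by simp; ring), Z_add]
    simp only [mul_assoc]
    rw [← mul_assoc (rX φ ψ s) (rZ φ ψ _), (R.XZ_all s _).eq, mul_assoc]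
  have hb : ∀ r0 ∈ ({1, ω} : Set F), ∀ s0 ∈ ({1, ω} : Set F), ∀ a : Fx F, P ((a : F) * r0) s0 := by
    intro r0 hr0 s0 hs0
    refine sq_induction (fun a : Fx F => P ((a : F) * r0) s0) ?_ ?_ ?_
    · simpa using h0r s0
    · intro x y hx hy
      show P _ _
      rw [show (((x + y : Fx F)) : F) * r0 = (x : F) * r0 + (y : F) * r0 by push_cast; ring]
      exact hr _ _ _ hx hy
    · intro t
      have ht : ((t : Fx F) : F) ≠ 0 := fun h => t.ne_zero (Subtype.ext h)
      have h := congrArg (MulAut.conj (rD φ (uF t⁻¹))) (R.yx r0 hr0 s0 hs0)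
      simp only [map_mul, D_Y, R.D_X, R.D_Z] at h
      show rY φ _ * rX φ ψ _ = _
      convert h using 4 <;> first | (apply Subtype.ext; simp; (try field_simp); done) | (apply Subtype.ext; simp; (try field_simp); ring1) | (simp; (try field_simp); done)
  have hb2 : ∀ r0 ∈ ({1, ω} : Set F), ∀ s0 ∈ ({1, ω} : Set F), ∀ a b : Fx F,
      P ((a : F) * r0) ((b : F) * s0) := by
    intro r0 hr0 s0 hs0 a b
    rcases eq_or_ne b 0 with rfl | hb0
    · simpa using h0s _
    have hb' : (b : F) ≠ 0 := fun h => hb0 (Subtype.ext h)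
    have h := congrArg (MulAut.conj (rL ψ (Units.mk0 b hb0))) (hb r0 hr0 s0 hs0 (a * b))
    simp only [map_mul, R.L_Y, R.L_X, R.L_Z] at h
    show rY φ _ * rX φ ψ _ = _
    convert h using 4 <;> first | (apply Subtype.ext; simp; (try field_simp); done) | (apply Subtype.ext; simp; (try field_simp); ring1) | (simp; (try field_simp); done)
  have hs' : ∀ r0 ∈ ({1, ω} : Set F), ∀ (a : Fx F) (s : F), P ((a : F) * r0) s := fun r0 hr0 a s => by
    obtain ⟨c, d, rfl⟩ := exists_combination R.hω s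
    refine hs _ _ _ ?_ (hb2 r0 hr0 ω (by simp) a d)
    have := hb2 r0 hr0 1 (by simp) a c
    rwa [mul_one] at this
  obtain ⟨a, b, rfl⟩ := exists_combination R.hω r
  refine hr _ _ _ ?_ (hs' ω (by simp) b s)
  have := hs' 1 (by simp) a s
  rwa [mul_one] at this

/-! ### The rank one group on the short root groups -/

theorem UX_all [Finite F] (c : Fx F) (u : F) : Commute (ψ (un c)) (rX φ ψ u) := by
  obtain ⟨a, b, rfl⟩ := exists_combination R.hω u
  rw [X_add]
  refine Commute.mul_right ?_ (R.UX_line ω (R.ux ω (by simp)) b c)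
  have := R.UX_line 1 (R.ux 1 (by simp)) a c
  rwa [mul_one] at this

theorem UY_all [Finite F] (c : Fx F) (u : F) :
    MulAut.conj (ψ (un c)) (rY φ u) = rY φ u * rX φ ψ ((c : F) * u) * rZ φ ψ (c * nrm u) := by
  let P : Fx F → F → Prop := fun c u =>
    MulAut.conj (ψ (un c)) (rY φ u) = rY φ u * rX φ ψ ((c : F) * u) * rZ φ ψ (c * nrm u)
  have hu : ∀ c u v, P c u → P c v → P c (u + v) := fun c u v hx hy => by
    show _ = _
    rw [Y_add, map_mul, show MulAut.conj (ψ (un c)) (rY φ u) = _ from hx,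
      show MulAut.conj (ψ (un c)) (rY φ v) = _ from hy]
    have e : rX φ ψ ((c : F) * u) * rY φ v =
        rZ φ ψ (-tr2 v ((c : F) * u)) * rY φ v * rX φ ψ ((c : F) * u) := by
      rw [mul_assoc (rZ φ ψ _), R.YX_all v ((c : F) * u)]
      simp only [← mul_assoc]
      rw [← Z_add, neg_add_cancel, Z_zero, one_mul]
    rw [show c * nrm (u + v) = c * nrm u + (-tr2 v ((c : F) * u)) + c * nrm v from
      Subtype.ext (by simp; ring), Z_add, Z_add, mul_add, X_add]
    have hZ : ∀ d, rY φ v * rZ φ ψ d = rZ φ ψ d * rY φ v := fun d => (R.YZ_all v d).eq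
    have hXZ : ∀ a d, rX φ ψ a * rZ φ ψ d = rZ φ ψ d * rX φ ψ a := fun a d => (R.XZ_all a d).eq
    calc rY φ u * rX φ ψ ((c : F) * u) * rZ φ ψ (c * nrm u) *
          (rY φ v * rX φ ψ ((c : F) * v) * rZ φ ψ (c * nrm v))
        = rY φ u * (rX φ ψ ((c : F) * u) * rY φ v) * rZ φ ψ (c * nrm u) *
            rX φ ψ ((c : F) * v) * rZ φ ψ (c * nrm v) := by
          simp only [mul_assoc]
          rw [← mul_assoc (rZ φ ψ (c * nrm u)) (rY φ v), ← hZ, mul_assoc]
      _ = _ := by
          rw [e, ← hZ (-tr2 v ((c : F) * u))]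
          simp only [mul_assoc]
          rw [← mul_assoc (rZ φ ψ (c * nrm u)) (rX φ ψ _), ← hXZ, mul_assoc,
            ← mul_assoc (rZ φ ψ (-tr2 v _)) (rX φ ψ _), ← hXZ, mul_assoc,
            ← mul_assoc (rZ φ ψ (-tr2 v _)) (rX φ ψ _), ← hXZ, mul_assoc,
            ← mul_assoc (rZ φ ψ (-tr2 v _)) (rZ φ ψ _), ← Z_add, add_comm, Z_add]
          simp only [mul_assoc]
  have hl : ∀ u0 ∈ ({1, ω} : Set F), ∀ a c : Fx F, P c ((a : F) * u0) := fun u0 h0 =>
    R.UY_line u0 (R.ux u0 h0) (fun a d => R.XZ_all _ d) (R.uy u0 h0)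
  obtain ⟨a, b, rfl⟩ := exists_combination R.hω u
  refine hu _ _ _ ?_ (hl ω (by simp) b c)
  have := hl 1 (by simp) a c
  rwa [mul_one] at this

theorem WX_all [Finite F] (u : F) : MulAut.conj (φ tw) (rX φ ψ u) = rX φ ψ (-star u) := by
  obtain ⟨a, b, rfl⟩ := exists_combination R.hω u
  rw [X_add, map_mul, R.WX_line ω (R.wx ω (by simp)) b, star_add, neg_add, X_add]
  have := R.WX_line 1 (R.wx 1 (by simp)) a
  rw [mul_one] at this
  rw [this]

end Rels

end Cfsg.Agent.Small.SUPres.U4
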